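import Cfsg.Agent.S2F.F4a1
import Cfsg.Agent.Oct.Mod2
import Cfsg.Agent.Chev.StCT
import Cfsg.Agent.Mult.ChevR3
import Cfsg.Agent.S1077
import Cfsg.Agent.S1078

/-!
The case `β = 1`: Curtis–Tits (the relation table is in `F4a1`).

General remarks (all S2F stubs): read `S2F/Def.lean` (definitions, conventions) and `S2F/Base.lean`, `Base2.lean` first. Identities in `U K`
are proved by `ext <;> simp only [UE, ...hypotheses] <;> grind` (add `ζ`, `ψ`, `pr` to the simp set); conjugation is `g * x * g⁻¹`;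
we write `X4 s` for `F.N (X4 s)` etc., `Ŵ = H.Wh`, `τ x = v` if `x t x⁻¹ = t N v`.  Weight arguments: `wt_inv`, `wtA`, `wtB` with `x` from `F.big` and
`σ_ne_self`, `σ_ne_sq`, `cub_ne`; `exists_l2`, `exists_l4`, `exists_lσ` give torus elements with a prescribed weight; `T_A2`, `T_A6`, `l_hv`, … give
the torus action.  In an abelian subgroup use a local `CommGroup` instance as in `Hat5.hv_mul`.
Keep the statements; add lemmas / extra files freely (unique names).

For `i ∈ ℤ` (mod `16`, `ρ⁸ = 1`): `A_{4+2k} c = ρ^k (a c) ρ^(-k)`, `A_{5+2k} c = ρ^k (a5 c) ρ^(-k)`, `X_i` likewise, `B_i c = A_i c X_i c = t (A_i c) t⁻¹`; `ρ` shifts by `2`, `w` maps `i ↦ 8 - i`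
(`w` commutes with `a`, `X4`; `n` with `a5`, `X5`; `w ρ w = ρ⁻¹`), `t` swaps `A_i, B_i`.  Relations (one pair per orbit of `⟨ρ, w, t⟩`):
* commuting: `(A4,A6), (A4,B6)` (`a46`, `aC`); `(A2,A5), (A2,B5)` (`c25`, `N_A2`); `(A2,A6)` (`c26`); `(A5,B5)` (`c0`); `(A8,B3)` (`R5`, `X3_A8`);
  `(A13,B5)`: `A13 = ⁅A16, A10⁆` and `B5` commutes with `A10`, `A0` (orbit of `(A8,B3)`).
* `A8 c A3 b (A8 c)⁻¹ = A3 b A6 (c b)` (`R5`); `A8 c A2 b (A8 c)⁻¹ = A2 b A5 (c b)` (`R6`, `β = 1`); `B8 c A2 b (B8 c)⁻¹ = A2 b B4 (c σ b) A6 (σ c b)` (`R6`, `L2`).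
Define `y : ℕ → K → G` on the roots of the standard rank two subsystems: short roots `y r s = B_i s` for `(r, i) = (13,2), (14,5), (20,0), (27,8), (33,13), (34,10), (19,12), (28,4)`;
long roots `y r s = A_i (θ s)` for `(17,14), (22,10), (25,2), (30,6), (21,8), (23,5), (24,13), (26,0)`.  Check `IsStOn chevF4 y (Phi chevF4 i j)` (enumerate `Phi` by `decide`, `commWord` by
`decide +kernel` on `commTerms`; characteristic `2`; `σ c * θ s = θ (c² s)`, `σ (θ s) = s`).  `curtis_tits` gives `z`; `exists_lift3` with `isR3_of_finite`, and S1077, S1078 (the Steinberg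
group is isomorphic to `chevF4.group K`; cf. `IsSt0.exists_injective_B2`) give `φ₀` with `φ₀ (xx r s) = y r s` on these roots.  Let `v` be the product of the `nn (simple i) 1` along the word
`[1,3,2,1,3,0,2,3,1,2,3,1,0]`: `v (xx r s) v⁻¹ = xx (v r) s` (`nn_conj`) with `33 ↦ 8, 14 ↦ 39, 27 ↦ 28, 20 ↦ 19, 25 ↦ 42, 22 ↦ 5, 24 ↦ 2, 23 ↦ 45, 13 ↦ 36, 34 ↦ 11, 21 ↦ 30, 26 ↦ 17`.
`φ = φ₀ ∘ conj v⁻¹`.  The group is generated by the `xx (± simple)`, so by their `v`-conjugates `xx r`, `r = 8, 39, 28, 19, 42, 5, 2, 45`, on which `φ ∘ sig = conj t ∘ φ`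
(`sig_short`, `sig_long`, `σ_eq`: `rhoF4` maps `8 ↔ 2, 39 ↔ 45, 28 ↦ 30, 19 ↦ 17, 42 ↦ 36, 5 ↦ 11`).  `φ` is injective: the group is simple (`isSimpleGroup_group`) and `a5 1 ≠ 1` (`ta5`).
-/

set_option autoImplicit false
set_option linter.unusedSectionVars false
set_option linter.unusedSimpArgs false
set_option maxRecDepth 20000

namespace Cfsg.Agent.S2F

open Subgroup Cfsg.Agent.Oct Cfsg.Agent.Fus Cfsg.Lie Cfsg.Agent.Chev
open scoped commutatorElement

variable {K : Type*} [Field K] [Tw K] [Fintype K] {G : Type*} [Group G] [Finite G]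

namespace F4a

local notation "xx" => xC chevF4 K

theorem hD : chevF4 ∈ [chevG2, chevB2, chevD4, chevF4, chevE6, chevE7, chevE8] := by simp

theorem exists_hom0 {z : ℕ → K → G} (hz : IsSt0 chevF4 z) :
    ∃ φ : chevF4.group K →* G, ∀ r < 48, ∀ s, φ (xx r s) = z r s := by
  obtain ⟨ψ, hψ⟩ := hz.exists_lift3 (Mult.isR3_of_finite hD hz) rootTableF4
  obtain ⟨π, hπ⟩ := (isSt_xC (D := chevF4) (F := K)).toIsSt0.exists_lift3 isR3_xC rootTableF4
  have h1 : π.ker = ⊥ := ((isSt0_stGen.isSt hD).ker_eq_center rootTableF4 π hπ Gs_stGen).trans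
    (S1078.result chevF4 (by simp))
  let e := MulEquiv.ofBijective π ⟨(MonoidHom.ker_eq_bot_iff π).1 h1, surjective_of_hom π hπ⟩
  refine ⟨ψ.comp e.symm.toMonoidHom, fun r hr s => ?_⟩
  rw [← hψ r hr, ← hπ r hr]
  exact congrArg ψ (e.symm_apply_apply _)

/-- The action of a word in the reflections. -/
def va (l : List (Fin 4)) (r : ℕ) : ℕ := l.foldr (fun (i : Fin 4) r => chevF4.reflectRoot i r) r

theorem exists_v (S : ChevSys rootTableF4 xx) (l : List (Fin 4)) :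
    ∃ v : chevF4.group K, ∀ r < 48, va l r < 48 ∧ ∀ s, v * xx r s * v⁻¹ = xx (va l r) s := by
  induction l with
  | nil => exact ⟨1, fun r hr => ⟨hr, fun s => by simp [va]⟩⟩
  | cons i l ih =>
    obtain ⟨v, h⟩ := ih
    refine ⟨nn chevF4 xx (chevF4.simple i) 1 * v, fun r hr => ⟨refl_lt i _ (h r hr).1, fun s => ?_⟩⟩
    rw [va, List.foldr_cons, ← va, ← nn_conj S i _ (h r hr).1, ← (h r hr).2]
    group

/-- The word. -/
def wd : List (Fin 4) := [1, 3, 2, 1, 3, 0, 2, 3, 1, 2, 3, 1, 0]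

/-- The partner of a root. -/
def Pt (r : ℕ) : Prop := r < 48 ∧ ∃ r' < 48, (∃ i j : Fin chevF4.rank, chevF4.InRankTwoSub i j r') ∧
  rhoF4 (va wd r) = va wd r' ∧ idx r' = fl (idx r) ∧
    (expF4 (va wd r) = 2 ∧ lng r = false ∧ lng r' = true ∨ expF4 (va wd r) = 1 ∧ lng r = true ∧ lng r' = false)

instance (r : ℕ) : Decidable (Pt r) := by unfold Pt; infer_instance

theorem pt : ∀ i : Fin chevF4.rank, (Pt (chevF4.simple i) ∧ chevF4.InRankTwoSub i i (chevF4.simple i)) ∧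
    Pt (chevF4.neg (chevF4.simple i)) ∧ chevF4.InRankTwoSub i i (chevF4.neg (chevF4.simple i)) := by decide +kernel

end F4a

open F4a in
theorem Rel.exists_hom {R : Rt K G} (H : Rel R) (hβ : H.β = 1) (S : ChevSys rootTableF4 (xC chevF4 K)) :
    ∃ φ : chevF4.group K →* G, Function.Injective φ ∧ ∀ g, φ (F4.sig S θ hθ0 g) = R.t * φ g * R.t⁻¹ := by
  obtain ⟨z, hz, hy⟩ := curtis_tits hD (isStOn H hβ)
  obtain ⟨φ, hφ⟩ := exists_hom0 hz
  obtain ⟨v, hv⟩ := exists_v S wd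
  have hφy : ∀ {i j : Fin chevF4.rank} {r}, chevF4.InRankTwoSub i j r → ∀ s, φ (xC chevF4 K r s) = y H r s :=
    fun h s => (hφ _ h.1 s).trans (hy _ _ _ (mem_Phi_iff.2 h) s)
  let c := (MulAut.conj v).toMonoidHom
  let c' := (MulAut.conj v).symm.toMonoidHom
  have hc : ∀ r < 48, ∀ s, c (xC chevF4 K r s) = xC chevF4 K (va wd r) s := fun r hr => (hv r hr).2
  have hc' : ∀ r < 48, ∀ s, c' (xC chevF4 K (va wd r) s) = xC chevF4 K r s := fun r hr s => by
    rw [← hc r hr]; exact (MulAut.conj v).symm_apply_apply _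
  let α := ((φ.comp c').comp (F4.sig S θ hθ0)).comp c
  let β := (MulAut.conj R.t).toMonoidHom.comp φ
  have key : ∀ {i : Fin chevF4.rank} {r}, Pt r ∧ chevF4.InRankTwoSub i i r → ∀ s,
      α (xC chevF4 K r s) = β (xC chevF4 K r s) := by
    rintro i r ⟨⟨hr, r', hr', ⟨j, k, h1⟩, h2, h3, h4⟩, h5⟩ s
    change φ (c' (F4.sig S θ hθ0 (c _))) = MulAut.conj R.t (φ _)
    rw [hc r hr, hφy h5, y, fl_E, ← h3]
    rcases h4 with ⟨h4, h6, h7⟩ | ⟨h4, h6, h7⟩
    · rw [F4.sig_short S θ hθ0 _ _ ⟨(hv r hr).1, h2, h4⟩, hc' r' hr', hφy h1, y, h6, h7, ← σ_eq]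
      exact congrArg _ (θσ s)
    · rw [F4.sig_long S θ hθ0 _ _ ⟨(hv r hr).1, h2, h4⟩, hc' r' hr', hφy h1, y, h6, h7]
      rfl
  have hx := (isSt_xC (D := chevF4) (F := K)).toIsSt0
  have e : α = β := Mult.hom_ext_of_Gs Gs_xC fun r hr =>
    IsSt0.eq_of_simple hD (hx.map α) (hx.map β) (fun i => key (pt i).1) (fun i => key (pt i).2) hr
  refine ⟨φ.comp c', ?_, fun g => ?_⟩
  · refine Function.Injective.comp (g := φ) ?_ (MulAut.conj v).symm.injective
    have := (isSimpleGroup_group (F := K) hD (by rintro (h | h) <;> exact absurd (congrArg (·.rank) h) (by decide))).1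
    rcases φ.normal_ker.eq_bot_or_eq_top with h | h
    · exact (MonoidHom.ker_eq_bot_iff φ).1 h
    · have h1 : φ (xC chevF4 K 23 1) = 1 := h.ge (mem_top _)
      rw [hφy (i := (3 : Fin 4)) (j := (3 : Fin 4)) (by decide +kernel)] at h1
      have h2 := H.ta5 (θ 1)
      rw [← A5, show E H (iA 5) (θ 1) = 1 from h1, map_one, one_mul, inv_one, mul_one, left_eq_mul,
        ← map_one R.N] at h2
      have := congrArg U.x5 (R.inj h2)
      simp only [UE] at this
      exact absurd this one_ne_zero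
  · have := DFunLike.congr_fun e (c' g)
    rwa [show α (c' g) = φ (c' (F4.sig S θ hθ0 g)) from
      congrArg (fun x => φ (c' (F4.sig S θ hθ0 x))) ((MulAut.conj v).apply_symm_apply g)] at this

end Cfsg.Agent.S2F
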