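import Cfsg.Agent.S2F.Mod1
import Cfsg.Agent.S2F.Push
import Cfsg.Agent.Chev.TwAutF4
import Cfsg.Agent.S2128
import Cfsg.Agent.Std.Basic
import Cfsg.Agent.PLocal.FStar
import Cfsg.Agent.GW.LemmaB

/-!
From the hypotheses of S3323 to the data `St0`.
-/

set_option autoImplicit false
set_option linter.unusedSectionVars false
set_option linter.unusedSimpArgs false
set_option maxRecDepth 20000

namespace Cfsg.Agent.S2F

open Subgroup Cfsg.Agent.Oct Cfsg.Agent.Fus Cfsg.Lie Cfsg.Agent.Chev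
open scoped commutatorElement

section

variable {K : Type*} [Field K] [Tw K] [Fintype K] (S : ChevSys rootTableF4 (xC chevF4 K))

theorem diag_inner {c : Fin 4 → Kˣ} (hc : c ∈ (F4.tw S θ hθ0).fixT) :
    ∃ h ∈ (F4.tw S θ hθ0).data.T, ∀ g, diagAut chevF4 K c g = h * g * h⁻¹ := by
  have := S.finite
  choose Φ hΦ using fun c => conj_eq_diagAut (S.H_eq ▸ S.tor_mem c)
  have hi : Function.Injective Φ := fun a b e =>
    F4.tor_injective S (conj_injective_group rootTableF4 (by rw [hΦ, hΦ, e]))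
  obtain ⟨d, rfl⟩ := Finite.surjective_of_injective hi c
  refine ⟨S.tor d, ?_, fun g => by rw [← hΦ]; rfl⟩
  have := (isSimpleGroup_group (D := chevF4) (F := K) (by simp) (by
    rintro (e | e) <;> exact absurd (congrArg ChevalleyDatum.rank e) (by decide))).1
  have h1 : Function.Injective (F4.tw S θ hθ0).data.σ := by
    rw [← MonoidHom.ker_eq_bot_iff]
    refine (MonoidHom.normal_ker _).eq_bot_or_eq_top.resolve_right fun e => ?_
    obtain ⟨v, -, h1, h2⟩ := (F4.tw S θ hθ0).data.nontriv 0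
    exact h2 (h1.symm.trans (e.ge (mem_top v)))
  rw [F4.T_eq_Fix]
  refine conj_injective_group rootTableF4 (MulEquiv.ext fun g => ?_)
  obtain ⟨g, rfl⟩ := Finite.surjective_of_injective h1 g
  have := (F4.tw S θ hθ0).σ_diagAut hc g
  rw [← hΦ, MulAut.conj_apply, map_mul, map_mul, map_inv] at this
  exact this

theorem exists_re1 (hK : 2 < Fintype.card K) {q : ℕ} (hq : ∀ t : K, θ t = t ^ q) {T' : Type*}
    [Group T'] (j : T' →* chevF4.group K) (hj : Function.Injective j)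
    (hr : j.range = (F4.tw S θ hθ0).data.T) : ∃ R : Re K T', R.L = ⊤ ∧
      ∀ α : MulAut T', (∀ s, α (R.N (X4 s)) = R.N (X4 s)) → ∃ x, α = MulAut.conj x := by
  have := S.finite
  have := Finite.of_injective j hj
  obtain ⟨R₀, h1, h2⟩ := exists_re0 S hK
  let φ : R₀.L →* T' :=
    (MonoidHom.ofInjective hj).symm.toMonoidHom.comp (inclusion (h2.trans hr.symm).le)
  have hφ : ∀ c, j (φ c) = c := fun c => MonoidHom.apply_ofInjective_symm hj _
  let R := R₀.push φ fun a b e => Subtype.ext (by rw [← hφ, e, hφ])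
  have hN : ∀ u, j (R.N u) = NN S u := fun u =>
    (hφ _).trans (show R₀.toLoc.N u = _ by rw [h1]; rfl)
  have hL : R.L = ⊤ := eq_top_iff.2 fun g _ => ⟨⟨j g, (h2.trans hr.symm).ge ⟨g, rfl⟩⟩, hj (hφ _)⟩
  refine ⟨R, hL, fun α hα => ?_⟩
  obtain ⟨g, hg⟩ := (F4.tw S θ hθ0).data.exists_conj_stab j hj hr 2 (S.isPGroup_U 2)
    (S.eq_one_of_pow 2) α
  obtain ⟨c, hc, f, h3⟩ := F4.exists_diag_field S θ hθ0 hq hK j hj hr hg
  obtain ⟨h, hh, h4⟩ := diag_inner S hc
  obtain ⟨h, rfl⟩ := hr.ge hh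
  have h5 : ∀ x, j (α x) = j (g⁻¹ * h) * fieldAut chevF4 K f (j x) * (j (g⁻¹ * h))⁻¹ := fun x => by
    have := h3 x
    rw [h4, MulAut.mul_apply, MulAut.conj_apply, map_mul, map_mul, map_inv] at this
    rw [map_mul, map_inv]
    calc _ = (j g)⁻¹ * (j g * j (α x) * (j g)⁻¹) * j g := by group
      _ = _ := by rw [this]; group
  generalize g⁻¹ * h = y at h5
  have h6 : ∀ s, R.N (X4 s) = y * R.N (X4 (f s)) * y⁻¹ := fun s => hj (by
    rw [← hα, h5, map_mul j, map_mul j, map_inv j, hN, hN, N_X4, N_X4, map_mul, fieldAut_xC,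
      fieldAut_xC, σ_eq, σ_eq, hq, hq, map_pow, map_pow])
  have h7 : y ∈ R.C := R.cen y (hL ▸ mem_top _) (by
    have := h6 1
    rw [map_one] at this
    exact mul_inv_eq_iff_eq_mul.1 this.symm)
  obtain rfl : f = 1 := RingEquiv.ext fun s => by
    have := h6 s
    rw [R.toLoc.comm_Z h7, mul_inv_cancel_right] at this
    exact (congrArg U.x4 (R.inj this)).symm
  exact ⟨y, MulEquiv.ext fun x => hj (by rw [h5, map_one]; simp)⟩

end

theorem exists_re {K : Type*} [Field K] [Fintype K] {m : ℕ} (hm : 1 ≤ m) (hK : Fintype.card K = 2 ^ (2 * m + 1)) :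
    ∃ (_ : Tw K) (R : Re K (twistedF4 K (2 ^ m))), R.L = ⊤ ∧
      ∀ α : MulAut (twistedF4 K (2 ^ m)), (∀ s, α (R.N (X4 s)) = R.N (X4 s)) → ∃ x, α = MulAut.conj x := by
  obtain ⟨_, S, θ', h1, h3, h2⟩ := F4.exists_data hK
  let : Tw K := ⟨(frobenius K 2).comp θ', fun t => by
    simp only [RingHom.comp_apply, frobenius_def, map_pow, h1], inferInstance⟩
  have e : θ' = θ := RingHom.ext fun t => σ_inj (by rw [σθ]; exact h1 t)
  have key : ∀ φ hφ, φ = θ → (F4.tw S φ hφ).data.T = (F4.tw S θ hθ0).data.T := by rintro _ _ rfl; rfl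
  exact ⟨_, exists_re1 S (F4.two_lt hm hK) (e ▸ h3) (inclusion F4.le_group) (inclusion_injective _)
    ((inclusion_range _).trans (h2.trans (key _ _ e)))⟩

theorem setup {G : Type*} [Group G] [Finite G] (hFs : IsSimpleGroup (generalizedFittingSubgroup G))
    (hFna : ¬ IsMulCommutative (generalizedFittingSubgroup G)) (L : Subgroup G) (hL : IsStandardSubgroup L)
    {K : Type*} [Field K] [Fintype K] {m : ℕ} (hm : 1 ≤ m) (hK : Fintype.card K = 2 ^ (2 * m + 1))
    (e : L ≃* twistedF4 K (2 ^ m)) (hcyc : ∀ R : Sylow 2 (centralizer (L : Set G)), IsCyclic R) :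
    ∃ (_ : Tw K) (R : Rt K G), R.L = L ∧ St0 R := by
  obtain ⟨_, R₁, h1, h2⟩ := exists_re hm hK
  have : Finite (twistedF4 K (2 ^ m)) := Finite.of_equiv _ e.toEquiv
  let φ : R₁.L →* G := L.subtype.comp (e.symm.toMonoidHom.comp R₁.L.subtype)
  let R := R₁.push φ (L.subtype_injective.comp (e.symm.injective.comp R₁.L.subtype_injective))
  have hR : R.L = L := le_antisymm (by rintro _ ⟨x, rfl⟩; exact (e.symm x).2) fun g hg =>
    ⟨⟨e ⟨g, hg⟩, h1 ▸ mem_top _⟩, congrArg Subtype.val (e.symm_apply_apply ⟨g, hg⟩)⟩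
  have hN : ∀ u, R.N u = e.symm (R₁.N u) := fun u => rfl
  obtain ⟨⟨t, h3⟩, ht⟩ := exists_prime_orderOf_dvd_card' 2 hL.2.1.1.two_dvd
  replace ht : orderOf t = 2 := by rw [← ht, orderOf_mk]
  have t1 : t ≠ 1 := by rintro rfl; simp at ht
  have h4 : t ∉ L := fun h => t1 (R.eq_one_of_central (hR ▸ h) (hR ▸ h3))
  have aut : ∀ c, (∀ g ∈ L, c * g * c⁻¹ ∈ L) → ∃ α : G → MulAut (twistedF4 K (2 ^ m)),
      (∀ n, α (c ^ n) = α c ^ n) ∧ α 1 = 1 ∧ (∀ x, (e.symm (α c x) : G) = c * e.symm x * c⁻¹) :=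
    fun c hc => by
      classical
      have h5 : c ∈ normalizer (L : Set G) := mem_normalizer_fintype hc
      let ψ := (MulAut.congr e).toMonoidHom.comp L.normalizerMonoidHom
      refine ⟨fun c => if h : c ∈ normalizer (L : Set G) then ψ ⟨c, h⟩ else 1, fun n => ?_, ?_,
        fun x => ?_⟩
      · simp only [dif_pos h5, dif_pos (pow_mem h5 n), ← map_pow]
        rfl
      · simp only [dif_pos (one_mem _)]
        exact map_one ψ
      · simp only [dif_pos h5]
        exact congrArg Subtype.val (e.symm_apply_apply _)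
  have dec : ∀ (c : G) (x : twistedF4 K (2 ^ m)),
      (∀ z, (e.symm (MulAut.conj x z) : G) = c * e.symm z * c⁻¹) →
      (e.symm x : G)⁻¹ * c ∈ centralizer (L : Set G) := fun c x h g hg => by
    have := h (e ⟨g, hg⟩)
    simp only [MulAut.conj_apply, map_mul, map_inv, e.symm_apply_apply, coe_mul, coe_inv] at this
    calc _ = (e.symm x : G)⁻¹ * (e.symm x * g * (e.symm x : G)⁻¹) * c := by group
      _ = _ := by rw [this]; group
  have hF : ∀ N : Subgroup G, N.Normal → N ⊓ generalizedFittingSubgroup G = ⊥ ∨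
      generalizedFittingSubgroup G ≤ N := fun N hN =>
    (hN.subgroupOf (generalizedFittingSubgroup G)).eq_bot_or_eq_top.imp
      (fun h => disjoint_iff.1 (subgroupOf_eq_bot.1 h)) subgroupOf_eq_top.1
  have hO : oddCore G = ⊥ := by
    rcases hF (oddCore G) inferInstance with h | h
    · rw [← h, left_eq_inf]
      refine le_trans ?_ (PLocal.centralizer_fstar_le G)
      rw [← commutator_eq_bot_iff_le_centralizer, eq_bot_iff, ← h]
      exact commutator_le_inf _ _
    · refine absurd ⟨⟨IsSimpleGroup.comm_iff_isSolvable.2 (GW.solvable_of_odd ?_)⟩⟩ hFna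
      exact Nat.coprime_two_right.1 (Grp.coprime_of_le_pPrimeCore h)
  have hn : ¬ L.Normal := fun hn => by
    have h5 := PLocal.comp_le_fstar ⟨hn.isSubnormal, hL.1⟩
    rcases hF L hn with h | h
    · rw [inf_eq_left.2 h5] at h
      have := R.simple.toNontrivial
      rw [hR, h] at this
      exact not_nontrivial _ this
    · exact h4 (h (PLocal.centralizer_fstar_le G (centralizer_le h h3)))
  refine ⟨_, { R with
      t := t
      tt := by rw [← sq, ← ht, pow_orderOf_eq_one]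
      tL := fun g hg => (h3 g (hR ▸ hg)).symm
      t_not := hR ▸ h4 }, hR, fun c hc g hg => ?_, fun c hc hz => ?_, fun c hc ⟨k, hk⟩ => ?_, ?_,
    Std.exists_conj hO hL hn ht h3⟩
  · change g ∈ R.L at hg
    change _ ∈ R.L
    rw [hR] at hg ⊢
    exact (Std.mem_normalizer_of_commute hL ht h3 hc g).1 hg
  · change ∀ g ∈ R.L, _ ∈ R.L at hc
    change ∀ s, c * R.N _ = R.N _ * c at hz
    change ∃ m ∈ R.C, ∃ k ∈ centralizer (R.L : Set G), _
    rw [hR] at hc ⊢
    obtain ⟨α, -, -, h5⟩ := aut c hc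
    obtain ⟨x, hx⟩ := h2 (α c) fun s => e.symm.injective (Subtype.ext (by
      rw [h5, ← hN, hz, mul_inv_cancel_right]))
    have h6 := dec c x (hx ▸ h5)
    refine ⟨e.symm x, R.cen _ (hR.ge (e.symm x).2) ?_, _, h6, by group⟩
    have h7 := h6 _ (hR.le (R.N_mem_L (X4 1)))
    calc _ = e.symm x * (R.N (X4 1) * ((e.symm x : G)⁻¹ * c)) * c⁻¹ * e.symm x := by group
      _ = c * R.N (X4 1) * c⁻¹ * e.symm x := by rw [h7]; group
      _ = _ := by rw [hz, mul_inv_cancel_right]
  · change ∀ g ∈ R.L, _ ∈ R.L at hc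
    change ∃ m ∈ R.L, ∃ k ∈ centralizer (R.L : Set G), _
    rw [hR] at hc ⊢
    obtain ⟨α, h5, h6, h7⟩ := aut c hc
    have h8 : orderOf (QuotientGroup.mk (α c) : Cfsg.Out (twistedF4 K (2 ^ m))) = 1 :=
      Nat.eq_one_of_dvd_coprimes (b := 2 ^ k) (a := 2 * m + 1)
        ((odd_two_mul_add_one m).coprime_two_right.pow_right k)
        (S2128.result hm hK ▸ _root_.orderOf_dvd_natCard _)
        (orderOf_dvd_of_pow_eq_one (by rw [← QuotientGroup.mk_pow, ← h5, hk, h6]; rfl))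
    obtain ⟨x, hx⟩ := (QuotientGroup.eq_one_iff _).1 (orderOf_eq_one_iff.1 h8)
    exact ⟨e.symm x, (e.symm x).2, _, dec c x (hx ▸ h7), by group⟩
  · change ∀ P : Sylow 2 (centralizer (R.L : Set G)), IsCyclic P
    rwa [hR]

end Cfsg.Agent.S2F
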