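import Cfsg.Agent.S2F.Def

/-!
Standard subgroups of type `²F₄(q)`: basic lemmas on the frame.
-/

set_option autoImplicit false
set_option linter.unusedSectionVars false
set_option linter.unusedSimpArgs false
set_option maxRecDepth 20000

namespace Cfsg.Agent.S2F

open Subgroup Cfsg.Agent.Oct Cfsg.Agent.Fus
open scoped commutatorElement

variable {K : Type*} [Field K] [Tw K] {G : Type*} [Group G]

theorem σ_ne_self {x : K} (h0 : x ≠ 0) (h1 : x ≠ 1) : σ x ≠ x := fun e => by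
  have := σσ x
  rw [e, e] at this
  grind

theorem σ_ne_sq {x : K} (h0 : x ≠ 0) (h1 : x ≠ 1) : σ x ≠ x ^ 2 := fun e =>
  σ_ne_self h0 h1 (σ_inj (by rw [σσ, e]))

theorem cub_ne {x : K} (h0 : x ≠ 0) (h1 : x ≠ 1) : x ^ 2 + x + 1 ≠ 0 := fun e => by
  have h2 := congrArg σ e
  simp only [UE] at h2
  have h3 := σ_ne_self h0 h1
  have h4 : σ x = x + 1 := by grind
  have h5 := congrArg σ h4
  simp only [UE] at h5
  grind

theorem add_one_ne {x : K} (h1 : x ≠ 1) : x + 1 ≠ 0 := by grind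

theorem eq_one_of_pow_two_pow {x : K} {k : ℕ} (h : x ^ 2 ^ k = 1) : x = 1 := by
  have h2 : (x - 1) ^ 2 ^ k = 0 := by rw [sub_pow_char_pow, h]; simp
  exact sub_eq_zero.1 (pow_eq_zero_iff (by positivity) |>.1 h2)

/-- An additive map invariant under scaling vanishes. -/
theorem wt_inv (big : ∃ x : K, x ≠ 0 ∧ x ≠ 1) {f : K → K} (hf : ∀ a b, f (a + b) = f a + f b)
    (h : ∀ μ, μ ≠ 0 → ∀ a, f (μ * a) = f a) (a : K) : f a = 0 := by
  obtain ⟨x, h0, h1⟩ := big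
  have h2 := h (x + 1) (add_one_ne h1) a
  rw [add_mul, hf, one_mul, h x h0] at h2
  grind

/-- Weights: `φ` additive at `x`, `χ` not. -/
theorem wtA {f φ χ : K → K} (hf : ∀ a b, f (a + b) = f a + f b) (h : ∀ y, y ≠ 0 → ∀ a, f (φ y * a) = χ y * f a)
    {x : K} (h0 : x ≠ 0) (h1 : x ≠ 1) (h2 : φ (x + 1) = φ x + φ 1) (h3 : χ (x + 1) ≠ χ x + χ 1) (a : K) : f a = 0 := by
  have e := h (x + 1) (add_one_ne h1) a
  rw [h2, add_mul, hf, h x h0, h 1 one_ne_zero, ← add_mul] at e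
  exact (mul_eq_mul_right_iff.1 e).resolve_left h3.symm

/-- Weights: `χ` additive at `x`, `φ` not. -/
theorem wtB {f φ χ : K → K} (hf : ∀ a b, f (a + b) = f a + f b) (h : ∀ y, y ≠ 0 → ∀ a, f (φ y * a) = χ y * f a)
    {x : K} (h0 : x ≠ 0) (h1 : x ≠ 1) (h2 : φ (x + 1) ≠ φ x + φ 1) (h3 : χ (x + 1) = χ x + χ 1) (a : K) : f a = 0 := by
  have hd : φ (x + 1) + (φ x + φ 1) ≠ 0 := by grind
  obtain ⟨b, rfl⟩ : ∃ b, a = (φ (x + 1) + (φ x + φ 1)) * b := ⟨a / _, (mul_div_cancel₀ a hd).symm⟩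
  rw [add_mul, add_mul, hf, hf, h _ (add_one_ne h1), h x h0, h 1 one_ne_zero, h3]
  grind

theorem exists_l4 [Finite K] {c : K} (hc : c ≠ 0) : ∃ κ : Kˣ, (κ : K) ^ 2 * σ (κ : K) = c := by
  obtain ⟨ν, h⟩ := exists_w8 (inv_ne_zero hc)
  exact ⟨ν, by grind⟩

theorem exists_l2 [Finite K] {c : K} (hc : c ≠ 0) : ∃ κ : Kˣ, (κ : K) * σ (κ : K) = c := by
  obtain ⟨ν, h⟩ := exists_w6 (inv_ne_zero hc)
  exact ⟨ν, by grind⟩

theorem exists_lσ [Finite K] {c : K} (hc : c ≠ 0) : ∃ κ : Kˣ, σ (κ : K) = c :=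
  ⟨Units.mk0 (θ c) (by simpa using hc), σθ c⟩

theorem σu_ne (κ : Kˣ) : σ (κ : K) ≠ 0 := fun e => κ.ne_zero (σ_eq_zero.1 e)

theorem eq_one_l2 {κ : Kˣ} (h : (κ : K) * σ (κ : K) = 1) : κ = 1 := by
  have h2 := congrArg σ h
  simp only [UE] at h2
  exact Units.ext (by change (κ : K) = 1; grind)

theorem eq_one_l4 {κ : Kˣ} (h : (κ : K) ^ 2 * σ (κ : K) = 1) : κ = 1 := by
  have h2 := congrArg σ h
  simp only [UE] at h2
  exact Units.ext (σ_inj (by rw [Units.val_one, map_one]; grind))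

theorem ψ_mem (u : U K) : ψ u ∈ Rs := by simp only [ψ, mem_Rs, UE]

theorem comm_pr {q v : U K} (hq : q ∈ Qs) (hv : v ∈ As) : q * v * q⁻¹ = v * X4 (pr q v) := by
  rw [mem_As] at hv
  ext <;> simp only [UE, hq.1, hq.2, hv, pr] <;> grind

namespace Re

variable (R : Re K G)

/-- The rotation `i ↦ i + 2`. -/
def ρ : G := R.n * R.w

theorem n_inv : R.n⁻¹ = R.n := inv_eq_of_mul_eq_one_left R.nn

theorem N_mem_L (u : U K) : R.N u ∈ R.L := R.C_le (R.N_mem u)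
theorem w_mem_L : R.w ∈ R.L := R.C_le R.w_mem
theorem h_mem_L (ν : Kˣ) : R.h ν ∈ R.L := R.C_le (R.h_mem ν)

variable {R} in
theorem n_symm {x y : G} (h : R.n * x * R.n⁻¹ = y) : R.n * y * R.n⁻¹ = x := by
  rw [← h, R.n_inv]
  calc _ = R.n * R.n * x * (R.n * R.n) := by group
    _ = x := by simp [R.nn]

variable {R} in
theorem w_symm {x y : G} (h : R.w * x * R.w⁻¹ = y) : R.w * y * R.w⁻¹ = x := by
  rw [← h, R.w_inv]
  calc _ = R.w * R.w * x * (R.w * R.w) := by group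
    _ = x := by simp [R.ww]

theorem nY8 (s : K) : R.n * R.N (Y8 s) * R.n⁻¹ = R.N (Y2 s) := n_symm (R.nY2 s)
theorem nX8 (s : K) : R.n * R.N (X8 s) * R.n⁻¹ = R.N (X2 s) := n_symm (R.nX2 s)
theorem nX7 (s : K) : R.n * R.N (X7 s) * R.n⁻¹ = R.N (X3 s) := n_symm (R.nX3 s)
theorem nY6 (s : K) : R.n * R.N (Y6 s) * R.n⁻¹ = R.N (Y4 s) := n_symm (R.nY4 s)
theorem nX6 (s : K) : R.n * R.N (X6 s) * R.n⁻¹ = R.N (X4 s) := n_symm (R.nX4 s)

theorem nN {u : U K} (hu : u ∈ Rs) : R.n * R.N u * R.n⁻¹ = R.N (ψ u) := by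
  conv_lhs => rw [decomp u, show u.x1 = 0 from hu, X1_zero, one_mul]
  simp only [ψ, map_mul, ← R.nY2 u.y2, ← R.nX2 u.x2, ← R.nX3 u.x3, ← R.nY4 u.y4, ← R.nX4 u.x4, ← R.nY6 u.y6,
    ← R.nX6 u.x6, ← R.nX7 u.x7, ← R.nY8 u.y8, ← R.nX8 u.x8]
  conv_rhs => rw [← R.nX5 u.x5]
  group

theorem wX1 (s : K) : R.w * R.N (X1 s) * R.w⁻¹ = R.N (X7 s) := by
  rw [R.wN _ ⟨rfl, rfl⟩]; exact congrArg _ (by ext <;> simp only [UE])
theorem wY2 (s : K) : R.w * R.N (Y2 s) * R.w⁻¹ = R.N (Y6 s) := by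
  rw [R.wN _ ⟨rfl, rfl⟩]; exact congrArg _ (by ext <;> simp only [UE])
theorem wX2 (s : K) : R.w * R.N (X2 s) * R.w⁻¹ = R.N (X6 s) := by
  rw [R.wN _ ⟨rfl, rfl⟩]; exact congrArg _ (by ext <;> simp only [UE])
theorem wX3 (s : K) : R.w * R.N (X3 s) * R.w⁻¹ = R.N (X5 s) := by
  rw [R.wN _ ⟨rfl, rfl⟩]; exact congrArg _ (by ext <;> simp only [UE])
theorem wY4 (s : K) : R.w * R.N (Y4 s) * R.w⁻¹ = R.N (Y4 s) := by
  rw [R.wN _ ⟨rfl, rfl⟩]; exact congrArg _ (by ext <;> simp only [UE])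
theorem wX4 (s : K) : R.w * R.N (X4 s) * R.w⁻¹ = R.N (X4 s) := by
  rw [R.wN _ ⟨rfl, rfl⟩]; exact congrArg _ (by ext <;> simp only [UE])
theorem wX5 (s : K) : R.w * R.N (X5 s) * R.w⁻¹ = R.N (X3 s) := w_symm (R.wX3 s)
theorem wY6 (s : K) : R.w * R.N (Y6 s) * R.w⁻¹ = R.N (Y2 s) := w_symm (R.wY2 s)
theorem wX6 (s : K) : R.w * R.N (X6 s) * R.w⁻¹ = R.N (X2 s) := w_symm (R.wX2 s)
theorem wX7 (s : K) : R.w * R.N (X7 s) * R.w⁻¹ = R.N (X1 s) := w_symm (R.wX1 s)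

/-- The torus acts faithfully modulo `U`. -/
theorem lh_eq_N {κ ν : Kˣ} {u : U K} (e : R.l κ * R.h ν = R.N u) : κ = 1 ∧ ν = 1 := by
  have key : ∀ v, ζ κ (η ν v) = u * v * u⁻¹ := fun v => R.inj (by
    rw [← R.lN, ← R.hN, map_mul, map_mul, map_inv, ← e]; group)
  have h1 := congrArg U.y8 (key (Y8 1))
  have h2 := congrArg U.x1 (key (X1 1))
  simp only [UE, ζ] at h1 h2
  obtain rfl : ν = 1 := Units.ext (σ_inj (by rw [Units.val_one, map_one]; grind))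
  refine ⟨Units.ext ?_, rfl⟩
  simp only [inv_one, Units.val_one, map_one] at h2 ⊢
  grind

theorem exists_nT [Finite K] (κ ν : Kˣ) : ∃ κ' ν' : Kˣ, σ (κ' : K) = κ * ν ∧ σ (ν' : K) * ν = κ ∧
    R.n * (R.l κ * R.h ν) * R.n⁻¹ = R.l κ' * R.h ν' := by
  obtain ⟨κ', h1⟩ := exists_lσ (κ * ν).ne_zero
  obtain ⟨ν', h2⟩ := exists_lσ (κ * ν⁻¹).ne_zero
  have h3 : σ (ν' : K) * ν = κ := by rw [h2]; simp
  exact ⟨κ', ν', h1, h3, R.nT _ _ _ _ h1 h3⟩

theorem eq_one_of_central {g : G} (hg : g ∈ R.L) (h : g ∈ centralizer (R.L : Set G)) : g = 1 := by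
  have := R.simple
  rcases (center R.L).normal_of_characteristic.eq_bot_or_eq_top with e | e
  · have : (⟨g, hg⟩ : R.L) ∈ center R.L := mem_center_iff.2 fun x => Subtype.ext (h x x.2)
    rw [e, mem_bot] at this
    exact congrArg Subtype.val this
  · have : (⟨_, R.N_mem_L (X1 1)⟩ : R.L) ∈ center R.L := e ▸ mem_top _
    have := congrArg Subtype.val (mem_center_iff.1 this ⟨_, R.N_mem_L (X6 1)⟩)
    simp only [coe_mul, ← map_mul] at this
    have := congrArg U.x4 (R.inj this)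
    simp only [UE] at this
    grind

theorem l_conj_C (κ : Kˣ) {m : G} (hm : m ∈ R.C) : R.l κ * m * (R.l κ)⁻¹ ∈ R.C := by
  refine R.cen _ (mul_mem (mul_mem (R.l_mem κ) (R.C_le hm)) (inv_mem (R.l_mem κ))) ?_
  have := R.lN κ⁻¹ (X4 1)
  rw [show ζ κ⁻¹ (X4 1) = X4 (ζ κ⁻¹ (X4 1)).x4 by ext <;> simp only [UE, ζ], map_inv, inv_inv] at this
  calc _ = R.l κ * (m * ((R.l κ)⁻¹ * R.N (X4 1) * R.l κ)) * (R.l κ)⁻¹ := by group
    _ = _ := by rw [this, Loc.comm_Z hm, ← this]; group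

variable [Finite K]

theorem cen_s {g : G} (hg : g ∈ R.L) {s : K} (hs : s ≠ 0) (h : g * R.N (X4 s) = R.N (X4 s) * g) : g ∈ R.C := by
  obtain ⟨κ, hκ⟩ := exists_l4 hs
  have e : R.l κ * R.N (X4 1) * (R.l κ)⁻¹ = R.N (X4 s) := by
    rw [R.lN]; exact congrArg _ (by ext <;> simp only [UE, ζ, hκ])
  have := R.l_conj_C κ (R.cen ((R.l κ)⁻¹ * g * R.l κ) (mul_mem (mul_mem (inv_mem (R.l_mem κ)) hg) (R.l_mem κ)) (by
    calc _ = (R.l κ)⁻¹ * (g * (R.l κ * R.N (X4 1) * (R.l κ)⁻¹)) * R.l κ := by group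
      _ = _ := by rw [e, h, ← e]; group))
  simpa [mul_assoc] using this

end Re

namespace Rt

variable (R : Rt K G)

/-- The Sylow subgroup `U × ⟨t⟩` of `C(t)`. -/
def T : Subgroup G where
  carrier := {x | ∃ u, x = R.N u ∨ x = R.N u * R.t}
  mul_mem' := by
    have h : ∀ u, R.t * R.N u = R.N u * R.t := fun u => R.tL _ (R.N_mem_L u)
    rintro _ _ ⟨u, rfl | rfl⟩ ⟨v, rfl | rfl⟩
    · exact ⟨u * v, .inl (by simp)⟩
    · exact ⟨u * v, .inr (by simp [mul_assoc])⟩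
    · exact ⟨u * v, .inr (by rw [mul_assoc, h, map_mul, mul_assoc])⟩
    · exact ⟨u * v, .inl (by rw [mul_assoc, ← mul_assoc R.t, h, mul_assoc, R.tt, map_mul, mul_one])⟩
  one_mem' := ⟨1, .inl (by simp)⟩
  inv_mem' := by
    rintro _ ⟨u, rfl | rfl⟩
    · exact ⟨u⁻¹, .inl (by simp)⟩
    · exact ⟨u⁻¹, .inr (by rw [mul_inv_rev, inv_eq_of_mul_eq_one_left R.tt, ← map_inv, R.tL _ (R.N_mem_L _)])⟩

theorem mem_T {x : G} : x ∈ R.T ↔ ∃ u, x = R.N u ∨ x = R.N u * R.t := Iff.rfl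

theorem t_inv : R.t⁻¹ = R.t := inv_eq_of_mul_eq_one_left R.tt

theorem tN (u : U K) : R.t * R.N u = R.N u * R.t := R.tL _ (R.N_mem_L u)

theorem t_ne_N (u : U K) : R.t ≠ R.N u := fun e => R.t_not (e ▸ R.N_mem_L u)

theorem t_conj {g : G} (hg : g ∈ R.L) : g * R.t * g⁻¹ = R.t := by rw [← R.tL g hg, mul_inv_cancel_right]

end Rt

namespace Fz

variable (F : Fz K G)

/-- No conjugate of `t` is a square. -/
theorem not_sq {x : G} (hx : IsConj F.t x) (g : G) : g * g ≠ x := by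
  obtain ⟨c, rfl⟩ := isConj_iff.1 hx
  intro e
  have e1 : c⁻¹ * g * c * (c⁻¹ * g * c) = F.t := by
    calc _ = c⁻¹ * (g * g) * c := by group
      _ = _ := by rw [e]; group
  generalize c⁻¹ * g * c = y at e1
  have hc : y * F.t = F.t * y := by rw [← e1, mul_assoc]
  rcases F.two y hc ⟨2, by rw [show y ^ 2 ^ 2 = y * y * (y * y) by norm_num [pow_succ, mul_assoc], e1, F.tt]⟩ with h | h
  · exact F.t_not (e1 ▸ mul_mem h h)
  · have := mul_mem h h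
    rw [mul_assoc, ← mul_assoc F.t, ← hc, mul_assoc, F.tt, mul_one, e1] at this
    exact F.t_not this

variable [Finite K] [Finite G]

theorem isConj_tX4 (c : K) : IsConj F.t (F.t * F.N (X4 c)) := by
  by_cases hc : c = 0
  · rw [hc, X4_zero, map_one, mul_one]
  obtain ⟨g, hg⟩ := F.fus
  obtain ⟨κ, hκ⟩ := exists_l4 hc
  refine isConj_iff.2 ⟨F.l κ * g, ?_⟩
  calc _ = F.l κ * (g * F.t * g⁻¹) * (F.l κ)⁻¹ := by group
    _ = F.l κ * F.t * (F.l κ)⁻¹ * (F.l κ * F.N (X4 1) * (F.l κ)⁻¹) := by rw [hg]; group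
    _ = _ := by rw [F.t_conj (F.l_mem κ), F.lN]; exact congrArg _ (congrArg _ (by ext <;> simp only [UE, ζ, hκ]))

end Fz

namespace Fr

variable (F : Fr K G)

theorem aut' {c : G} (h1 : c * F.t = F.t * c) (h2 : ∀ s, c * F.N (X4 s) = F.N (X4 s) * c) :
    c ∈ F.C ∨ c * F.t ∈ F.C := by
  obtain ⟨m, hm, k, hk, rfl⟩ := F.aut c h1 h2
  rcases F.cL k hk (by
    rw [mul_assoc, ← mul_assoc F.t, F.tL _ (F.C_le hm), mul_assoc, mul_right_inj] at h1
    exact h1) with rfl | rfl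
  · exact .inl (by simpa using hm)
  · exact .inr (by simpa [mul_assoc, F.tt] using hm)

theorem mem_T_of {c : G} (h1 : c * F.t = F.t * c) (h2 : ∀ s, c * F.N (X4 s) = F.N (X4 s) * c) {v v' : U K}
    (e : c * F.N v * c⁻¹ = F.N v') (h3 : ∀ m ∈ F.C, m * F.N v * m⁻¹ = F.N v' → Loc.InB F.toLoc m)
    (h4 : ∀ (u : U K) ν, u * η ν v * u⁻¹ = v' → ν = 1) : ∃ u, c = F.N u ∨ c = F.N u * F.t := by
  have key : ∀ m ∈ F.C, m * F.N v * m⁻¹ = F.N v' → ∃ u, m = F.N u := fun m hm e => by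
    obtain ⟨u, ν, rfl⟩ := h3 m hm e
    obtain rfl := h4 u ν (F.inj (by rw [← e, map_mul, map_mul, map_inv, ← F.hN]; group))
    exact ⟨u, by simp⟩
  rcases F.aut' h1 h2 with h | h
  · exact (key c h e).imp fun u hu => .inl hu
  · refine (key _ h ?_).imp fun u hu => .inr (by rw [← hu, mul_assoc, F.tt, mul_one])
    rw [← e, mul_assoc c, F.tN]
    group

/-- An element of `C(t) ∩ C(V₄)` fixing `X6 1` modulo `V₄` lies in `T`. -/
theorem cenW {c : G} (h1 : c * F.t = F.t * c) (h2 : ∀ s, c * F.N (X4 s) = F.N (X4 s) * c) {s : K}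
    (e : c * F.N (X6 1) * c⁻¹ = F.N (X6 1 * X4 s)) : ∃ u, c = F.N u ∨ c = F.N u * F.t :=
  F.mem_T_of h1 h2 e (fun m hm e => Loc.inB_W hm e (by simp only [mem_Ws, UE, and_self]) one_ne_zero
    (by simp only [mem_Ws, UE, and_self])) fun u ν e => by
      have := congrArg U.x6 e
      simp only [UE] at this
      exact eq_one_l2 (by grind)

theorem cen6 {c : G} (h1 : c * F.t = F.t * c) (h2 : ∀ s, c * F.N (X4 s) = F.N (X4 s) * c)
    (e : c * F.N (X6 1) = F.N (X6 1) * c) : ∃ u, c = F.N u ∨ c = F.N u * F.t :=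
  F.cenW h1 h2 (s := 0) (by rw [e, mul_inv_cancel_right, X4_zero, mul_one])

theorem cen5 {c : G} (h1 : c * F.t = F.t * c) (h2 : ∀ s, c * F.N (X4 s) = F.N (X4 s) * c)
    (e : c * F.N (X5 1) = F.N (X5 1) * c) : ∃ u, c = F.N u ∨ c = F.N u * F.t :=
  F.mem_T_of h1 h2 (v := X5 1) (v' := X5 1) (by rw [e, mul_inv_cancel_right])
    (fun m hm e => Loc.inB_Y hm e (by simp only [mem_Ys, UE, and_self]) one_ne_zero
      (by simp only [mem_Ys, UE, and_self])) fun u ν e => by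
      have := congrArg U.x5 e
      simp only [UE] at this
      exact Units.ext (by change (ν : K) = 1; grind)

theorem cen7 {c : G} (h1 : c * F.t = F.t * c) (h2 : ∀ s, c * F.N (X4 s) = F.N (X4 s) * c)
    (e : c * F.N (X7 1) = F.N (X7 1) * c) : ∃ u, c = F.N u ∨ c = F.N u * F.t :=
  F.mem_T_of h1 h2 (v := X7 1) (v' := X7 1) (by rw [e, mul_inv_cancel_right])
    (fun m hm e => Loc.inB_7 hm e) fun u ν e => by
      have := congrArg U.x7 e
      simp only [UE] at this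
      exact eq_one_l2 (by grind)

end Fr

end Cfsg.Agent.S2F
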