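import Cfsg.Agent.Oct.Mod2
import Cfsg.Agent.S2F.Base

/-!
The coordinates `Re` in the model `²F₄(q) ≤ F₄(q)`.
-/

set_option autoImplicit false
set_option linter.unusedSectionVars false
set_option linter.unusedSimpArgs false
set_option maxRecDepth 20000

namespace Cfsg.Agent.S2F

open Subgroup Cfsg.Agent.Oct Cfsg.Agent.Fus Cfsg.Lie Cfsg.Agent.Chev
open scoped commutatorElement

variable {K : Type*} [Field K] [Tw K] [Fintype K]

section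

local notation "xx" => xC chevF4 K
local notation "Γ" => chevF4.group K

variable (S : ChevSys rootTableF4 (xC chevF4 K))

local notation "TT" => TwistData.T (TwMap.data (F4.tw S θ hθ0))

/-- The parameters of the second torus. -/
def cκ : Kˣ →* (Fin 4 → Kˣ) := MonoidHom.mk' (fun ν => ![ν ^ 2 * Units.map (σ : K →+* K).toMonoidHom ν,
  ν ^ 3 * Units.map (σ : K →+* K).toMonoidHom ν ^ 2, ν ^ 4 * Units.map (σ : K →+* K).toMonoidHom ν ^ 3,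
  ν ^ 2 * Units.map (σ : K →+* K).toMonoidHom ν ^ 2]) fun a b => by
  funext i
  fin_cases i <;> simp [mul_pow, mul_mul_mul_comm]

/-- A weight. -/
def la (r : ℕ) : ℤ := 2 * chevF4.cartan 0 r + 3 * chevF4.cartan 1 r + 4 * chevF4.cartan 2 r + 2 * chevF4.cartan 3 r
/-- A weight. -/
def lb (r : ℕ) : ℤ := chevF4.cartan 0 r + 2 * chevF4.cartan 1 r + 3 * chevF4.cartan 2 r + 2 * chevF4.cartan 3 r

theorem chi_l (r : ℕ) (ν : Kˣ) : (chi chevF4 r (cκ ν) : K) = (ν : K) ^ la r * σ (ν : K) ^ lb r := by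
  have h1 := ν.ne_zero
  have h2 : σ (ν : K) ≠ 0 := fun e => h1 (σ_eq_zero.1 e)
  rw [F4.chi_eq r (fun i => chevF4.cartan i r) fun _ => rfl]
  simp only [cκ, la, lb, zpow_add₀ h1, zpow_add₀ h2, MonoidHom.mk'_apply]
  simp [mul_zpow, zpow_mul, zpow_ofNat]
  ring

theorem lwt_eq : la 33 = 1 ∧ lb 33 = 0 ∧ la 24 = 0 ∧ lb 24 = 1 ∧ la 34 = 1 ∧ lb 34 = 0 ∧ la 26 = 0 ∧ lb 26 = 1 ∧ la 36 = 1 ∧ lb 36 = 1 ∧ la 42 = 2 ∧ lb 42 = 1 ∧ la 38 = 1 ∧ lb 38 = 1 ∧ la 43 = 2 ∧ lb 43 = 1 ∧ la 29 = 0 ∧ lb 29 = 1 ∧ la 41 = 2 ∧ lb 41 = 0 ∧ la 44 = 2 ∧ lb 44 = 1 ∧ la 47 = 2 ∧ lb 47 = 2 ∧ la 39 = 1 ∧ lb 39 = 1 ∧ la 45 = 2 ∧ lb 45 = 1 ∧ la 35 = 1 ∧ lb 35 = 0 ∧ la 31 = 0 ∧ lb 31 = 1 ∧ la 40 = 1 ∧ lb 40 = 1 ∧ la 46 = 2 ∧ lb 46 = 1 ∧ la 37 = 1 ∧ lb 37 = 0 ∧ la 32 = 0 ∧ lb 32 = 1 ∧ la 27 = 0 ∧ lb 27 = 0 ∧ la 25 = 0 ∧ lb 25 = 0 ∧ la 28 = 0 ∧ lb 28 = 0 ∧ la 30 = 0 ∧ lb 30 = 0 := by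
  decide +kernel

/-- The second torus. -/
noncomputable def ll0 : Kˣ →* Γ := S.tor.comp cκ

theorem ll_conj (ν : Kˣ) (r : ℕ) (hr : r < 48) (t : K) :
    ll0 S ν * xx r t * (ll0 S ν)⁻¹ = xx r ((ν : K) ^ la r * σ (ν : K) ^ lb r * t) := by
  rw [← chi_l]; exact S.tor_conj _ hr t

theorem ll_NN (ν : Kˣ) (u : U K) : ll0 S ν * NN S u * (ll0 S ν)⁻¹ = NN S (ζ ν u) := by
  rw [NN_eq, conj_word (f := id) (ll_conj S ν) fun p hp => (nw_pos u p hp).1, NN_eq]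
  congr 1
  simp only [Oct.nw, List.map, lwt_eq, ζ, id, List.cons.injEq, Prod.mk.injEq, true_and, and_true, map_mul, map_add, map_pow,
    σσ, zpow_ofNat]
  and_intros <;> ring

theorem ll_T (ν : Kˣ) : ll0 S ν ∈ TT := F4.tor_mem_T S θ hθ0 ((F4.mem_fixT S θ hθ0).2 ⟨by
  change (ν : K) ^ 2 * σ (ν : K) = θ ((ν : K) ^ 2 * σ (ν : K) ^ 2)
  rw [map_mul, map_pow θ (σ _), θσ, ← σσ, θσ, mul_comm], by
  change (ν : K) ^ 3 * σ (ν : K) ^ 2 = θ ((ν : K) ^ 4 * σ (ν : K) ^ 3)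
  rw [map_mul, map_pow θ (σ _), θσ, show (ν : K) ^ 4 = ((ν : K) ^ 2) ^ 2 by ring, map_pow, ← σσ (ν : K), θσ, mul_comm]⟩)

theorem wact_l : ∀ r < 48, wact r < 48 ∧ la (wact r) = la r ∧ lb (wact r) = lb r := by
  decide +kernel

theorem ll_ww (ν : Kˣ) : ll0 S ν * ww K = ww K * ll0 S ν := by
  refine S.eq_of_conj fun r hr t => ?_
  obtain ⟨a1, a2, a3⟩ := wact_l r hr
  have h1 := ll_conj S ν _ a1 (1 * t)
  have h2 := ww_conj S r hr ((ν : K) ^ la r * σ (ν : K) ^ lb r * t)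
  rw [← ww_conj S r hr t, a2, a3] at h1
  rw [← ll_conj S ν r hr] at h2
  simp only [mul_inv_rev, mul_assoc, one_mul] at h1 h2 ⊢
  rw [h1, h2]

theorem n1_sq : n1 K * n1 K = 1 := by
  rw [n1, ← oprod_append]
  exact oprod_eq_of_eqB (L' := []) (by decide +kernel)

theorem nact_eq2 : nact 34 = 27 ∧ nact 26 = 25 ∧ nact 36 = 28 ∧ nact 29 = 35 ∧ nact 41 = 31 ∧ nact 44 = 40 ∧
    nact 47 = 46 ∧ nact 39 = 39 ∧ nact 45 = 45 := by decide +kernel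

theorem n1_Y2 (t : K) : n1 K * NN S (Y2 t) * (n1 K)⁻¹ = NN S (Y8 t) := by
  have h1 : NN S (Y2 t) = word xx [(34, t), (26, σ t), (36, t * σ t)] := by simp [NN_eq, Oct.nw, Y2, x0]
  have h2 : NN S (Y8 t) = word xx [(27, t), (25, σ t), (28, t * σ t)] := by simp [NN_eq, Oct.nw, Y8, x0]
  rw [h1, h2, conj_word (n1_conj S) (by simp)]
  simp [nact_eq2]

theorem n1_Y4 (t : K) : n1 K * NN S (Y4 t) * (n1 K)⁻¹ = NN S (Y6 t) := by
  have h1 : NN S (Y4 t) = word xx [(29, t), (41, σ t), (44, t * σ t)] := by simp [NN_eq, Oct.nw, Y4, x0]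
  have h2 : NN S (Y6 t) = word xx [(35, t), (31, σ t), (40, t * σ t)] := by simp [NN_eq, Oct.nw, Y6, x0]
  rw [h1, h2, conj_word (n1_conj S) (by simp)]
  simp [nact_eq2]

theorem n1_X4 (t : K) : n1 K * NN S (X4 t) * (n1 K)⁻¹ = NN S (X6 t) := by
  simp only [N_X6, N_X4, n1_conj2 S _ _ (by decide : 44 < 48 ∧ 47 < 48), nact_eq2]

theorem n1_X5 (t : K) : n1 K * NN S (X5 t) * (n1 K)⁻¹ = NN S (X5 t) := by
  have h1 : NN S (X5 t) = xx 39 t * xx 45 (σ t) := by simp [NN_eq, Oct.nw, X5, x0]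
  simp only [h1, n1_conj2 S _ _ (by decide : 39 < 48 ∧ 45 < 48), nact_eq2]

theorem n1_X1_cub : (n1 K * NN S (X1 1)) ^ 3 = 1 := by
  have h1 : NN S (X1 1) = oprod xx [33, 24] 1 := by simp [N_X1]
  rw [h1, n1, pow_three]
  simp only [← oprod_append]
  exact oprod_eq_of_eqB (L' := []) (by decide +kernel)

theorem nact_l : ∀ r < 48, nact r < 48 ∧ nact (nact r) = r ∧ la (nact r) + wi (nact r) = 2 * lb r ∧
    lb (nact r) + wj (nact r) = la r ∧ 2 * lb (nact r) = la r + wi r ∧ la (nact r) = lb r + wj r := by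
  decide +kernel

theorem lh_conj (κ ν : Kˣ) (r : ℕ) (hr : r < 48) (t : K) :
    ll0 S κ * hh0 S ν * xx r t * (ll0 S κ * hh0 S ν)⁻¹ =
      xx r ((κ : K) ^ la r * σ (κ : K) ^ lb r * ((ν : K) ^ wi r * σ (ν : K) ^ wj r * t)) := by
  rw [← ll_conj S κ r hr, ← hh_conj S ν r hr]
  simp only [mul_inv_rev, mul_assoc]

theorem n1_lh (κ ν κ' ν' : Kˣ) (h1 : σ (κ' : K) = κ * ν) (h2 : σ (ν' : K) * ν = κ) :
    n1 K * (ll0 S κ * hh0 S ν) * (n1 K)⁻¹ = ll0 S κ' * hh0 S ν' := by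
  refine S.eq_of_conj fun r hr t => ?_
  obtain ⟨a1, a2, a3, a4, a5, a6⟩ := nact_l r hr
  have e : (n1 K)⁻¹ = n1 K := inv_eq_of_mul_eq_one_left n1_sq
  have h3 : (κ' : K) = ν' * σ (ν : K) := σ_inj (by rw [h1, map_mul, σσ, ← h2]; ring)
  have k1 := lh_conj S κ ν _ a1 (1 * t)
  have k2 := n1_conj S _ a1 ((κ : K) ^ la (nact r) * σ (κ : K) ^ lb (nact r) *
    ((ν : K) ^ wi (nact r) * σ (ν : K) ^ wj (nact r) * (1 * t)))
  rw [← k1, ← n1_conj S r hr t, a2] at k2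
  rw [lh_conj S κ' ν' r hr]
  refine Eq.trans (by simp only [mul_inv_rev, inv_inv, e, mul_assoc]) (k2.trans (congrArg _ ?_))
  have b1 := ν.ne_zero
  have b2 := σu_ne ν
  have b3 := ν'.ne_zero
  have b4 := σu_ne ν'
  have c1 : (ν : K) ^ la (nact r) * (ν : K) ^ wi (nact r) = ((ν : K) ^ 2) ^ lb r := by
    rw [← zpow_add₀ b1, a3, zpow_mul, zpow_ofNat]
  have c2 : σ (ν : K) ^ lb (nact r) * σ (ν : K) ^ wj (nact r) = σ (ν : K) ^ la r := by
    rw [← zpow_add₀ b2, a4]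
  have c3 : ((ν' : K) ^ 2) ^ lb (nact r) = (ν' : K) ^ la r * (ν' : K) ^ wi r := by
    rw [← zpow_add₀ b3, ← a5, zpow_mul, zpow_ofNat]
  have c4 : σ (ν' : K) ^ la (nact r) = σ (ν' : K) ^ lb r * σ (ν' : K) ^ wj r := by
    rw [← zpow_add₀ b4, a6]
  rw [h3, ← h2]
  simp only [map_mul, σσ, mul_zpow, c3, c4, ← c1, ← c2]
  ring

theorem nw_it : ∀ r < 48, wact r < 48 ∧ nact (wact r) < 48 ∧ (nact ∘ wact)^[8] r = r := by decide +kernel

include S in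
theorem n1_ww : (n1 K * ww K) ^ 8 = 1 := by
  have key : ∀ k, ∀ r < 48, ∀ t, (n1 K * ww K) ^ k * xx r t * ((n1 K * ww K) ^ k)⁻¹ =
      xx ((nact ∘ wact)^[k] r) t := fun k => by
    induction k with
    | zero => simp
    | succ k ih =>
      intro r hr t
      obtain ⟨a1, a2, -⟩ := nw_it r hr
      have h1 := n1_conj S _ a1 (1 * t)
      rw [← ww_conj S r hr t, one_mul, one_mul] at h1
      rw [Function.iterate_succ_apply, Function.comp_apply, ← ih _ a2, ← h1, pow_succ]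
      simp only [mul_inv_rev, mul_assoc]
  refine S.eq_of_conj fun r hr t => ?_
  rw [key 8 r hr, (nw_it r hr).2.2]; simp

theorem syl0 : SylIn 2 (NN S).range TT := by
  refine sylIn_of_not_dvd_relIndex ((isPGroup_U (K := K)).of_surjective _ (NN S).rangeRestrict_surjective) ?_
  have h1 := ((NN S).range.subgroupOf TT).card_mul_index
  rw [F4.card_T S θ hθ0 rfl (TT).subtype (TT).subtype_injective (TT).range_subtype,
    Nat.card_congr (subgroupOfEquivOfLe (by rintro _ ⟨u, rfl⟩; exact NN_T S u)).toEquiv,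
    ← Nat.card_congr (MonoidHom.ofInjective (NN_inj S)).toEquiv, card_U,
    Nat.card_eq_fintype_card, mul_assoc, mul_assoc, mul_assoc, mul_right_inj' (by positivity)] at h1
  obtain ⟨k, -, hk⟩ := FiniteField.card K 2
  have h2 : Even (Fintype.card K) := hk ▸ (Nat.even_pow.2 ⟨even_two, k.ne_zero⟩)
  have h3 : ∀ i, i ≠ 0 → Even (Fintype.card K ^ i) := fun i hi => Nat.even_pow.2 ⟨h2, hi⟩
  rw [relIndex, h1, Nat.two_dvd_ne_zero, ← Nat.odd_iff]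
  exact (Nat.Even.sub_odd Fintype.card_pos h2 odd_one).mul ((h3 3 (by decide)).add_one.mul
    ((Nat.Even.sub_odd (Nat.one_le_pow _ _ Fintype.card_pos) (h3 4 (by decide)) odd_one).mul (h3 6 (by decide)).add_one))

end

theorem exists_re0 (S : ChevSys rootTableF4 (xC chevF4 K)) (hK : 2 < Fintype.card K) :
    ∃ R : Re K (chevF4.group K), R.toLoc = loc0 S ∧ R.L = TwistData.T (TwMap.data (F4.tw S θ hθ0)) := by
  refine ⟨{
    toLoc := loc0 S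
    n := n1 K
    l := ll0 S
    L := TwistData.T (TwMap.data (F4.tw S θ hθ0))
    big := ?_
    lN := ll_NN S
    lw := ll_ww S
    lh := fun κ ν => ?_
    nn := n1_sq
    nY2 := n1_Y2 S
    nX2 := n1_X2 S
    nX3 := n1_X3 S
    nY4 := n1_Y4 S
    nX4 := n1_X4 S
    nX5 := n1_X5 S
    nX1 := n1_X1_cub S
    nT := n1_lh S
    nw8 := n1_ww S
    C_le := inf_le_left
    n_mem := n1_T S
    l_mem := ll_T S
    cen := fun g hg h => ⟨hg, mem_centralizer_singleton_iff.2 h⟩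
    gen := fun P => TT_le S
    simple := (F4.isSimpleGroup S θ hθ0 hK (Subgroup.subtype _) (subtype_injective _) (range_subtype _)).1
    syl := syl0 S }, rfl, rfl⟩
  · by_contra hn
    push Not at hn
    obtain ⟨a, b, c, h1, h2, h3⟩ := Fintype.two_lt_card_iff.1 hK
    by_cases a0 : a = 0 <;> by_cases b0 : b = 0 <;> by_cases c0 : c = 0 <;> simp_all
  · exact (S.tor.map_mul (cκ κ) (cν ν)).symm.trans ((congrArg S.tor (mul_comm _ _)).trans (S.tor.map_mul _ _))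

end Cfsg.Agent.S2F
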