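import Cfsg.Agent.Oct.Base

/-!
Standard subgroups of type `²F₄(q)`: the definitions.

Conventions.  Conjugation is `g * x * g⁻¹`.  `U K`, `X1 … X8`, `Y2 … Y8`, `σ`, `θ = σ⁻¹`, `ω`, `η`, the simp set `UE`
and `Loc` come from `Oct/U`, `Oct/Loc`, `Oct/Base`.  `M = C` is the centraliser in `L` of `V₄ = N(Zs)`,
`Q = N(Qs)`, `W = N(As)`.  `w` acts on the indices of the root groups by `i ↦ 8 - i`, `n` by `i ↦ 10 - i`,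
`ρ = n * w` by `i ↦ i + 2`.
-/

set_option autoImplicit false
set_option linter.unusedSectionVars false
set_option linter.unusedSimpArgs false
set_option maxRecDepth 20000

namespace Cfsg.Agent.S2F

open Subgroup Cfsg.Agent.Oct Cfsg.Agent.Fus

variable {K : Type*} [Field K] [Tw K] {G : Type*} [Group G]

/-- The action of the second torus. -/
def ζ (κ : Kˣ) (a : U K) : U K where
  x1 := (κ : K) * a.x1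
  y2 := (κ : K) * a.y2
  x2 := (κ : K) * σ (κ : K) * a.x2
  x3 := (κ : K) * σ (κ : K) * a.x3
  y4 := σ (κ : K) * a.y4
  x4 := (κ : K) ^ 2 * σ (κ : K) * a.x4
  x5 := (κ : K) * σ (κ : K) * a.x5
  y6 := (κ : K) * a.y6
  x6 := (κ : K) * σ (κ : K) * a.x6
  x7 := (κ : K) * a.x7
  y8 := a.y8
  x8 := a.x8

/-- The action of the reflection `n` on `Rs`. -/
def ψ (a : U K) : U K :=
  Y8 a.y2 * X8 a.x2 * X7 a.x3 * Y6 a.y4 * X6 a.x4 * X5 a.x5 * Y4 a.y6 * X4 a.x6 * X3 a.x7 * Y2 a.y8 * X2 a.x8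

/-- The commutator pairing `Q × W → V₄`. -/
def pr (q v : U K) : K := q.x1 * v.x6 + q.x7 * v.x2 + q.y2 * v.x5 + q.y6 * v.x3

/-- `W U₄ = C_Q(W)`. -/
def Ps : Subgroup (U K) where
  carrier := {u | u.x1 = 0 ∧ u.y2 = 0 ∧ u.y6 = 0 ∧ u.x7 = 0 ∧ u.y8 = 0 ∧ u.x8 = 0}
  mul_mem' := fun {a b} ⟨h0, h1, h2, h3, h4, h5⟩ ⟨k0, k1, k2, k3, k4, k5⟩ => by
    simp only [Set.mem_ofPred_eq, UE, h0, h1, h2, h3, h4, h5, k0, k1, k2, k3, k4, k5, and_self]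
  one_mem' := by simp only [Set.mem_ofPred_eq, UE, and_self]
  inv_mem' := fun {a} ⟨h0, h1, h2, h3, h4, h5⟩ => by
    simp only [Set.mem_ofPred_eq, UE, h0, h1, h2, h3, h4, h5, and_self]

theorem mem_Ps {u : U K} : u ∈ Ps ↔ u.x1 = 0 ∧ u.y2 = 0 ∧ u.y6 = 0 ∧ u.x7 = 0 ∧ u.y8 = 0 ∧ u.x8 = 0 := Iff.rfl

/-- `C_U(X5 1)`. -/
def U0 : Subgroup (U K) where
  carrier := {u | u.y2 = 0 ∧ u.y8 = 0}
  mul_mem' := fun {a b} ⟨h0, h1⟩ ⟨k0, k1⟩ => by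
    simp only [Set.mem_ofPred_eq, UE, h0, h1, k0, k1, and_self]
  one_mem' := by simp only [Set.mem_ofPred_eq, UE, and_self]
  inv_mem' := fun {a} ⟨h0, h1⟩ => by
    simp only [Set.mem_ofPred_eq, UE, h0, h1, and_self]

theorem mem_U0 {u : U K} : u ∈ U0 ↔ u.y2 = 0 ∧ u.y8 = 0 := Iff.rfl

/-- `W₄ U₄ W₆ U₆`. -/
def P0 : Subgroup (U K) where
  carrier := {u | u.x1 = 0 ∧ u.y2 = 0 ∧ u.y8 = 0}
  mul_mem' := fun {a b} ⟨h0, h1, h2⟩ ⟨k0, k1, k2⟩ => by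
    simp only [Set.mem_ofPred_eq, UE, h0, h1, h2, k0, k1, k2, and_self]
  one_mem' := by simp only [Set.mem_ofPred_eq, UE, and_self]
  inv_mem' := fun {a} ⟨h0, h1, h2⟩ => by
    simp only [Set.mem_ofPred_eq, UE, h0, h1, h2, and_self]

theorem mem_P0 {u : U K} : u ∈ P0 ↔ u.x1 = 0 ∧ u.y2 = 0 ∧ u.y8 = 0 := Iff.rfl

/-- `X₃ X₄ X₅ X₆ X₇`. -/
def F5 : Subgroup (U K) where
  carrier := {u | u.x1 = 0 ∧ u.y2 = 0 ∧ u.x2 = 0 ∧ u.y4 = 0 ∧ u.y6 = 0 ∧ u.y8 = 0 ∧ u.x8 = 0}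
  mul_mem' := fun {a b} ⟨h0, h1, h2, h3, h4, h5, h6⟩ ⟨k0, k1, k2, k3, k4, k5, k6⟩ => by
    simp only [Set.mem_ofPred_eq, UE, h0, h1, h2, h3, h4, h5, h6, k0, k1, k2, k3, k4, k5, k6, and_self]
  one_mem' := by simp only [Set.mem_ofPred_eq, UE, and_self]
  inv_mem' := fun {a} ⟨h0, h1, h2, h3, h4, h5, h6⟩ => by
    simp only [Set.mem_ofPred_eq, UE, h0, h1, h2, h3, h4, h5, h6, and_self]

theorem mem_F5 {u : U K} :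
    u ∈ F5 ↔ u.x1 = 0 ∧ u.y2 = 0 ∧ u.x2 = 0 ∧ u.y4 = 0 ∧ u.y6 = 0 ∧ u.y8 = 0 ∧ u.x8 = 0 := Iff.rfl

/-- A subgroup `L ≅ ²F₄(q)`, `q ≥ 8`, of `G`, in coordinates. -/
structure Re (K : Type*) [Field K] [Tw K] (G : Type*) [Group G] extends Loc K G where
  n : G
  l : Kˣ →* G
  L : Subgroup G
  big : ∃ x : K, x ≠ 0 ∧ x ≠ 1
  lN : ∀ κ u, l κ * N u * (l κ)⁻¹ = N (ζ κ u)
  lw : ∀ κ, l κ * w = w * l κ
  lh : ∀ κ ν, l κ * h ν = h ν * l κ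
  nn : n * n = 1
  nY2 : ∀ s, n * N (Y2 s) * n⁻¹ = N (Y8 s)
  nX2 : ∀ s, n * N (X2 s) * n⁻¹ = N (X8 s)
  nX3 : ∀ s, n * N (X3 s) * n⁻¹ = N (X7 s)
  nY4 : ∀ s, n * N (Y4 s) * n⁻¹ = N (Y6 s)
  nX4 : ∀ s, n * N (X4 s) * n⁻¹ = N (X6 s)
  nX5 : ∀ s, n * N (X5 s) * n⁻¹ = N (X5 s)
  nX1 : (n * N (X1 1)) ^ 3 = 1
  nT : ∀ κ ν κ' ν' : Kˣ, σ (κ' : K) = κ * ν → σ (ν' : K) * ν = κ → n * (l κ * h ν) * n⁻¹ = l κ' * h ν'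
  nw8 : (n * w) ^ 8 = 1
  C_le : C ≤ L
  n_mem : n ∈ L
  l_mem : ∀ κ, l κ ∈ L
  cen : ∀ g ∈ L, g * N (X4 1) = N (X4 1) * g → g ∈ C
  gen : ∀ P : Subgroup G, (∀ u, N u ∈ P) → w ∈ P → (∀ s, n * N (X1 s) * n⁻¹ ∈ P) → L ≤ P
  simple : IsSimpleGroup L
  syl : SylIn 2 N.range L

/-- An involution centralising `L`. -/
structure Rt (K : Type*) [Field K] [Tw K] (G : Type*) [Group G] extends Re K G where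
  t : G
  tt : t * t = 1
  tL : ∀ g ∈ L, t * g = g * t
  t_not : t ∉ L

/-- What the hypotheses of the theorem give at once. -/
structure St0 (R : Rt K G) : Prop where
  nrm : ∀ c, c * R.t = R.t * c → ∀ g ∈ R.L, c * g * c⁻¹ ∈ R.L
  autN : ∀ c, (∀ g ∈ R.L, c * g * c⁻¹ ∈ R.L) → (∀ s, c * R.N (X4 s) = R.N (X4 s) * c) →
    ∃ m ∈ R.C, ∃ k ∈ centralizer (R.L : Set G), c = m * k
  twoN : ∀ c, (∀ g ∈ R.L, c * g * c⁻¹ ∈ R.L) → Two c → ∃ x ∈ R.L, ∃ k ∈ centralizer (R.L : Set G), c = x * k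
  cyc : ∀ P : Sylow 2 (centralizer (R.L : Set G)), IsCyclic P
  zs : ∃ g, g * R.t * g⁻¹ ≠ R.t ∧ Commute R.t (g * R.t * g⁻¹)

/-- The centraliser of `t`, and the fusion of `t`. -/
structure Fz (K : Type*) [Field K] [Tw K] (G : Type*) [Group G] extends Rt K G where
  nrm : ∀ c, c * t = t * c → ∀ g ∈ L, c * g * c⁻¹ ∈ L
  two : ∀ c, c * t = t * c → Two c → c ∈ L ∨ c * t ∈ L
  aut : ∀ c, c * t = t * c → (∀ s, c * N (X4 s) = N (X4 s) * c) → ∃ m ∈ C, ∃ k ∈ centralizer (L : Set G), c = m * k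
  fus : ∃ g, g * t * g⁻¹ = t * N (X4 1)

/-- The frame: `C(t) ∩ C(L) = ⟨t⟩`. -/
structure Fr (K : Type*) [Field K] [Tw K] (G : Type*) [Group G] extends Fz K G where
  cL : ∀ k ∈ centralizer (L : Set G), k * t = t * k → k = 1 ∨ k = t

/-- `R'` is the image of `R` in a quotient of `P` by a central subgroup of odd order. -/
structure Cover {G' : Type*} [Group G'] (R : Rt K G) (R' : Rt K G') (P : Subgroup G) (π : P →* G') : Prop where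
  surj : Function.Surjective π
  cent : ∀ z : P, π z = 1 → ∀ x : P, x * z = z * x
  odd : ∀ z : P, π z = 1 → Odd (orderOf z)
  L_le : R.L ≤ P
  t_mem : R.t ∈ P
  πN : ∀ (x : P) u, x.1 = R.N u → π x = R'.N u
  πw : ∀ x : P, x.1 = R.w → π x = R'.w
  πn : ∀ x : P, x.1 = R.n → π x = R'.n
  πt : ∀ x : P, x.1 = R.t → π x = R'.t
  πh : ∀ (x : P) ν, x.1 = R.h ν → π x = R'.h ν
  πl : ∀ (x : P) κ, x.1 = R.l κ → π x = R'.l κ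

/-- The `2`-elements of `C(H₀) ∩ C(V₄) ∩ N(V₄⟨t⟩)`. -/
structure Ea (F : Fr K G) (E : Subgroup G) : Prop where
  two : ∀ g ∈ E, Two g
  hc : ∀ g ∈ E, ∀ ν, g * F.h ν = F.h ν * g
  zc : ∀ g ∈ E, ∀ s, g * F.N (X4 s) = F.N (X4 s) * g
  tr : ∀ g ∈ E, ∃ c, g * F.t * g⁻¹ = F.t * F.N (X4 c)
  ex : ∀ c, ∃ g ∈ E, g * F.t * g⁻¹ = F.t * F.N (X4 c)
  t_mem : F.t ∈ E
  y_mem : ∀ s r, F.N (Y4 s * X4 r) ∈ E
  ct : ∀ g ∈ E, g * F.t = F.t * g → ∃ s r, g = F.N (Y4 s * X4 r) ∨ g = F.N (Y4 s * X4 r) * F.t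
  lE : ∀ g ∈ E, ∀ κ, F.l κ * g * (F.l κ)⁻¹ ∈ E
  wE : ∀ g ∈ E, F.w * g * F.w⁻¹ ∈ E
  nU : ∀ g ∈ E, ∀ u, ∃ v, g * F.N u * g⁻¹ = F.N v

/-- The group `Γ` of order `q²` over `V₄`. -/
structure Pre (F : Fr K G) (Γ : Subgroup G) : Prop where
  z_mem : ∀ s, F.N (X4 s) ∈ Γ
  tr : ∀ g ∈ Γ, ∃ c, g * F.t * g⁻¹ = F.t * F.N (X4 c)
  ex : ∀ c, ∃ g ∈ Γ, g * F.t * g⁻¹ = F.t * F.N (X4 c)
  ct : ∀ g ∈ Γ, g * F.t = F.t * g → ∃ s, g = F.N (X4 s)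
  hc : ∀ g ∈ Γ, ∀ ν, g * F.h ν = F.h ν * g
  lΓ : ∀ g ∈ Γ, ∀ κ, F.l κ * g * (F.l κ)⁻¹ ∈ Γ
  wΓ : ∀ g ∈ Γ, F.w * g * F.w⁻¹ ∈ Γ
  cQ : ∀ g ∈ Γ, ∀ q ∈ Qs, ∃ s, g * F.N q * g⁻¹ = F.N (q * X4 s)
  cU : ∀ g ∈ Γ, ∀ u, ∃ v ∈ As, g * F.N u * g⁻¹ = F.N (u * v)
  comm : ∀ g ∈ Γ, ∀ g' ∈ Γ, g * g' = g' * g
  sq : ∃ s₀, ∀ g ∈ Γ, ∀ c, g * F.t * g⁻¹ = F.t * F.N (X4 c) → g * g = F.N (X4 (s₀ * c))

/-- The action of `Γ` on `U`, up to a parameter `κ`. -/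
structure Kap [Finite K] (F : Fr K G) (Γ : Subgroup G) (κ : K) : Prop where
  cQ : ∀ g ∈ Γ, ∀ c, g * F.t * g⁻¹ = F.t * F.N (X4 c) → ∀ q ∈ Qs,
    g * F.N q * g⁻¹ = F.N (q * X4 (κ * θ (q.y4 * c)))
  c8 : ∀ g ∈ Γ, ∀ c, g * F.t * g⁻¹ = F.t * F.N (X4 c) → ∀ a,
    g * F.N (X8 a) * g⁻¹ = F.N (X8 a * X6 (κ * θ (a * c)))
  c46 : ∀ g ∈ Γ, ∀ g' ∈ Γ, g * (F.n * g' * F.n⁻¹) = F.n * g' * F.n⁻¹ * g

/-- A complement `a(K)` to `V₄` in `Γ`. -/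
structure Hat (R : Rt K G) where
  a : K → G
  add : ∀ c d, a (c + d) = a c * a d
  ta : ∀ c, a c * R.t * (a c)⁻¹ = R.t * R.N (X4 c)
  aC : ∀ c, ∀ m ∈ R.C, m * a c = a c * m
  la : ∀ (κ : Kˣ) c, R.l κ * a c * (R.l κ)⁻¹ = a ((κ : K) ^ 2 * σ (κ : K) * c)
  a46 : ∀ c d, a c * (R.n * a d * R.n⁻¹) = R.n * a d * R.n⁻¹ * a c
  L1 : ∀ c d, R.N (X1 d) * (R.n * a c * R.n⁻¹) * (R.N (X1 d))⁻¹ = R.n * a c * R.n⁻¹ * a (c * d)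

namespace Hat

variable {R : Rt K G} (H : Hat R)

/-- The conjugate of index `6`. -/
def A6 (c : K) : G := R.n * H.a c * R.n⁻¹
/-- The conjugate of index `2`. -/
def A2 (c : K) : G := R.w * H.A6 c * R.w⁻¹
/-- The conjugate of index `8`. -/
def A8 (c : K) : G := R.n * H.A2 c * R.n⁻¹

/-- The group `Ŵ`. -/
def Wh : Subgroup G :=
  closure ({x | ∃ c, x = H.a c} ∪ {x | ∃ m ∈ R.C, ∃ c, x = m * H.A6 c * m⁻¹} ∪ {x | ∃ v ∈ As, x = R.N v})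

/-- The group `D`, a complement to `W` in `Ŵ` modulo `V₄`. -/
def Dh : Subgroup G :=
  closure ({x | ∃ c, x = H.a c} ∪ {x | ∃ m ∈ R.C, ∃ c, x = m * H.A6 c * m⁻¹} ∪ {x | ∃ s, x = R.N (X4 s)})

/-- The structure of `Ŵ`. -/
structure W1 : Prop where
  comm : ∀ x ∈ H.Wh, ∀ y ∈ H.Wh, x * y = y * x
  sq : ∀ x ∈ H.Wh, x * x = 1
  cP : ∀ x ∈ H.Wh, ∀ u ∈ Ps, R.N u * x = x * R.N u
  tau : ∀ x ∈ H.Wh, ∃ v ∈ As, x * R.t * x⁻¹ = R.t * R.N v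
  ker : ∀ x ∈ H.Wh, x * R.t = R.t * x → ∃ v ∈ As, x = R.N v
  cQ : ∀ x ∈ H.Wh, ∀ q ∈ Qs, ∃ c s, R.N q * x * (R.N q)⁻¹ = x * H.a c * R.N (X4 s)

/-- The section `W → Ŵ`. -/
def hw (a5 : K → G) (v : U K) : G :=
  H.A2 v.x2 * (R.w * a5 v.x3 * R.w⁻¹) * H.a v.x4 * a5 v.x5 * H.A6 v.x6

end Hat

/-- The complement `a5(K)` and the action of `M` on `Ŵ`. -/
structure Hat5 (R : Rt K G) extends Hat R where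
  a5 : K → G
  β : K
  w1 : toHat.W1
  add5 : ∀ c d, a5 (c + d) = a5 c * a5 d
  mem5 : ∀ e, a5 e ∈ toHat.Wh
  ta5 : ∀ e, a5 e * R.t * (a5 e)⁻¹ = R.t * R.N (X5 e)
  n5 : ∀ e, R.n * a5 e = a5 e * R.n
  c0 : ∀ e, ∀ u ∈ U0, R.N u * a5 e = a5 e * R.N u
  l5 : ∀ (κ : Kˣ) e, R.l κ * a5 e * (R.l κ)⁻¹ = a5 ((κ : K) * σ (κ : K) * e)
  h5 : ∀ (ν : Kˣ) e, R.h ν * a5 e * (R.h ν)⁻¹ = a5 ((ν : K) * e)
  LY2 : ∀ b e, R.N (Y2 b) * a5 e * (R.N (Y2 b))⁻¹ = a5 e * a (b * e)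
  LY8 : ∀ b e, R.N (Y8 b) * a5 e * (R.N (Y8 b))⁻¹ = a5 e * toHat.A6 (b * e)
  inv : ∀ m ∈ R.C, ∀ v ∈ As, ∀ v', m * R.N v * m⁻¹ = R.N v' →
    ∃ s, m * toHat.hw a5 v * m⁻¹ = toHat.hw a5 v' * R.N (X4 s)
  L2 : ∀ b c, R.N (X8 c) * toHat.A2 b * (R.N (X8 c))⁻¹ =
    toHat.A2 b * a (c * σ b) * R.N (X4 (β * (c * σ b))) * a5 (c * b) * toHat.A6 (σ c * b)
  L3 : ∀ b c, R.N (X8 c) * (R.w * a5 b * R.w⁻¹) * (R.N (X8 c))⁻¹ = R.w * a5 b * R.w⁻¹ * toHat.A6 (c * b)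

namespace Hat5

variable {R : Rt K G} (H : Hat5 R)

/-- The conjugate of index `3`. -/
def A3 (c : K) : G := R.w * H.a5 c * R.w⁻¹
/-- The conjugate of index `7`. -/
def A7 (c : K) : G := R.n * H.A3 c * R.n⁻¹
/-- The conjugate of index `1`. -/
def A1 (c : K) : G := R.w * H.A7 c * R.w⁻¹
/-- The section `W → Ŵ`. -/
def hv (v : U K) : G := H.toHat.hw H.a5 v

theorem hv_eq (v : U K) : H.hv v = H.A2 v.x2 * H.A3 v.x3 * H.a v.x4 * H.a5 v.x5 * H.A6 v.x6 := rfl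

/-- The commutators `[Ŵ₄, Ŵ₆]`, up to two parameters. -/
structure W3 (μ μ₄ : K) : Prop where
  R5 : ∀ b c, H.A8 c * H.A3 b * (H.A8 c)⁻¹ = H.A3 b * H.A6 (c * b) * R.N (X6 (μ * (c * b)))
  R6 : ∀ b c, H.A8 c * H.A2 b * (H.A8 c)⁻¹ =
    H.A2 b * H.a ((1 + H.β) * (c * σ b)) * R.N (X4 (μ₄ * (c * σ b))) * H.a5 (c * b) * R.N (X5 (μ * (c * b))) *
      H.A6 ((1 + H.β) * (σ c * b)) * R.N (X6 (μ₄ * (σ c * b)))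
  R37 : ∀ b c, H.A3 b * H.A7 c = H.A7 c * H.A3 b

/-- `g` lies over `q ∈ Q` in the group generated by the `M`-conjugates of `A₇`. -/
structure Qh (μ : K) (g : G) (q : U K) : Prop where
  mem : q ∈ Qs
  tg : ∃ x ∈ H.Wh, g * R.t * g⁻¹ = R.t * R.N q * x
  act : ∀ v ∈ As, ∀ v' ∈ As, g * (H.hv v * R.N v') * g⁻¹ =
    H.hv v * R.N v' * H.a (pr q v + pr q v') * R.N (X4 (μ * pr q v))
  cQ : ∀ p ∈ Qs, ∃ x ∈ H.Wh, g * R.N p * g⁻¹ = R.N p * x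

end Hat5

/-- The final relations. -/
structure Rel (R : Rt K G) extends Hat R where
  a5 : K → G
  β : K
  hβ : β = 0 ∨ β = 1
  add5 : ∀ c d, a5 (c + d) = a5 c * a5 d
  ta5 : ∀ e, a5 e * R.t * (a5 e)⁻¹ = R.t * R.N (X5 e)
  n5 : ∀ e, R.n * a5 e = a5 e * R.n
  c0 : ∀ e, ∀ u ∈ U0, R.N u * a5 e = a5 e * R.N u
  c45 : ∀ c e, a c * a5 e = a5 e * a c
  c25 : ∀ c e, toHat.A2 c * a5 e = a5 e * toHat.A2 c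
  c26 : ∀ c d, toHat.A2 c * toHat.A6 d = toHat.A6 d * toHat.A2 c
  L2 : ∀ b c, R.N (X8 c) * toHat.A2 b * (R.N (X8 c))⁻¹ =
    toHat.A2 b * a (c * σ b) * R.N (X4 (β * (c * σ b))) * a5 (c * b) * toHat.A6 (σ c * b)
  L3 : ∀ b c, R.N (X8 c) * (R.w * a5 b * R.w⁻¹) * (R.N (X8 c))⁻¹ = R.w * a5 b * R.w⁻¹ * toHat.A6 (c * b)
  R5 : ∀ b c, toHat.A8 c * (R.w * a5 b * R.w⁻¹) * (toHat.A8 c)⁻¹ = R.w * a5 b * R.w⁻¹ * toHat.A6 (c * b)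
  R6 : ∀ b c, toHat.A8 c * toHat.A2 b * (toHat.A8 c)⁻¹ =
    toHat.A2 b * a ((1 + β) * (c * σ b)) * a5 (c * b) * toHat.A6 ((1 + β) * (σ c * b))

/-- The subgroup `G₀ ≅ X` with a `2`-subgroup `S₀` normalised by `t`. -/
def Out (R : Rt K G) (X : Type*) [Group X] : Prop :=
  ∃ G₀ S₀ : Subgroup G, S₀ ≤ G₀ ∧ IsPGroup 2 S₀ ∧ (∀ s ∈ S₀, R.t * s * R.t⁻¹ ∈ S₀) ∧
    (∀ x ∈ S₀, x * x = 1 → ∃ y, y * y = x) ∧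
    (∀ s ∈ S₀, R.t * s * (R.t * s) = 1 → ∃ r ∈ S₀, R.t * s = r * R.t * r⁻¹) ∧
    Nat.card K ^ 12 ≤ Nat.card ↥(S₀ ⊓ centralizer {R.t}) ∧ ⁅G₀, G₀⁆ = G₀ ∧ Nonempty (G₀ ≃* X)

end Cfsg.Agent.S2F
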