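import Cfsg.Agent.S2F.Base
import Cfsg.Agent.Oct.Mod2
import Cfsg.Agent.S2174

/-!
The case `β = 1`: facts on `F₄(q)` and its twisting automorphism.

General remarks (all S2F stubs): read `S2F/Def.lean` (definitions, conventions) and `S2F/Base.lean`, `Base2.lean` first. Identities in `U K`
are proved by `ext <;> simp only [UE, ...hypotheses] <;> grind` (add `ζ`, `ψ`, `pr` to the simp set); conjugation is `g * x * g⁻¹`;
we write `X4 s` for `F.N (X4 s)` etc., `Ŵ = H.Wh`, `τ x = v` if `x t x⁻¹ = t N v`.  Weight arguments: `wt_inv`, `wtA`, `wtB` with `x` from `F.big` and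
`σ_ne_self`, `σ_ne_sq`, `cub_ne`; `exists_l2`, `exists_l4`, `exists_lσ` give torus elements with a prescribed weight; `T_A2`, `T_A6`, `l_hv`, … give
the torus action.  In an abelian subgroup use a local `CommGroup` instance as in `Hat5.hv_mul`.
Keep the statements; add lemmas / extra files freely (unique names).

`G₀ = φ.range` (perfect: `isSimpleGroup_group` + non-commutative), `S₀ = (S.R.U).map φ`; `S.R.U` is a `2`-group, stable under `sig` (`rhoF4` preserves positive roots);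
`(S.R.U ⊓ Fix).map φ ≤ S₀ ∩ C(t)` has order `q¹²` (`F4.card_U`; or use `NN S`, `NN_U`, `NN_T`, `card_U`).  Since `t² = 1` and `φ` is injective, `sig ∘ sig = id`.
`sqrt`: every `g` with `g² = 1` is a square: by `S2174.result` (second part) an involution is conjugate to `x₄₇(1)`, `x₄₄(1)`, `x₄₇(1) x₄₄(1)` or `x₃₉(1) x₄₅(1)`;
`x₄₇(1) = (x₄₆(1) x₂₄(1))²`, `x₄₄(1) = (x₄₀(1) x₃₃(1))²` (check by `oprod_eq_of_eqB`, `decide +kernel`), `x₄₄ x₄₇ = NN (X4 1) = NN (X1 1 * X6 1)²`, and `x₃₉ x₄₅ = NN (X5 1)` is conjugate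
(`Loc.cls5` for `loc0 S`) to `NN (X4 1 * X5 1 * X6 1) = NN (X8 1 * X2 1)²`.
`coc`: if `s ∈ U` and `sig s * s = 1` (this is `(t φ s)² = 1`) then `∃ r ∈ U, s = sig r * r⁻¹` (then `t φ s = t (t φ r t⁻¹) (φ r)⁻¹ = φ r t (φ r)⁻¹`).
Central series: let `r_0, …, r_11 = 33, 27, 34, 28, 29, 35, 36, 37, 38, 39, 40, 44` (the short positive roots), `pos r = k` if `r = r_k` or `r = rhoF4 r_k`, and
`U_k = closure {xx r s | 24 ≤ r < 48, k ≤ pos r}` (`U_0 = S.R.U` by `S.U_eq`, `U_12 = ⊥`).  Checked by computer (`decide +kernel`): for all positive `r, s` every term `c` of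
`commTerms r s` with odd coefficient has `pos c.1 > pos r` and `> pos s`.  So (`S.st.comm`; even coefficients vanish) `⁅U_0, U_k⁆ ≤ U_{k+1}`, `U_k` is normal in `U_0`, `sig`-stable, and every `s ∈ U_k` is
`xx r_k a * xx (ρ r_k) b * s'`, `s' ∈ U_{k+1}` (closure induction), with `a, b` unique (`S.inj_list`/`inj₂`-type argument; or avoid uniqueness: see below).
If `s ∈ U_k`, `sig s * s = 1`, then `sig s ≡ xx (ρ r_k) (σ a) * xx r_k (θ b)` mod `U_{k+1}`, so `b = σ a` (uniqueness: `xx r_k a' * xx (ρ r_k) b' ∈ U_{k+1} → a' = b' = 0`; e.g. elements of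
`U_{k+1}` are words over the list of roots of `pos > k` by the decomposition, and `S.inj_list rootTableF4.nil_pos` for the list sorted by `pos`).  With `r₀ = xx r_k a`,
`s' = (sig r₀)⁻¹ * s * r₀ ∈ U_{k+1}` and `sig s' * s' = 1`; downward induction on `k`.
-/

set_option autoImplicit false
set_option linter.unusedSectionVars false
set_option linter.unusedSimpArgs false
set_option maxRecDepth 20000

namespace Cfsg.Agent.S2F

open Subgroup Cfsg.Agent.Oct Cfsg.Agent.Fus Cfsg.Lie Cfsg.Agent.Chev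
open scoped commutatorElement

variable {K : Type*} [Field K] [Tw K] [Fintype K] {G : Type*} [Group G] [Finite G]

section f4bAbs

variable {H : Type*} [Group H]

theorem f4b_clo {A W : Subgroup H} (hW : A ≤ normalizer (W : Set H)) {s : Set H} (hs : s ⊆ A)
    {h : H} (H1 : ∀ g ∈ s, g * h * g⁻¹ * h⁻¹ ∈ W) : ∀ g ∈ closure s, g * h * g⁻¹ * h⁻¹ ∈ W := by
  intro g hg
  induction hg using closure_induction with
  | mem g hg => exact H1 g hg
  | one => simp
  | mul g g' hg _ h1 h2 =>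
    rw [show g * g' * h * (g * g')⁻¹ * h⁻¹ =
      g * (g' * h * g'⁻¹ * h⁻¹) * g⁻¹ * (g * h * g⁻¹ * h⁻¹) by group]
    exact mul_mem (conj_mem_of_mem_normalizer (hW ((closure_le _).2 hs hg)) h2) h1
  | inv g hg h1 =>
    rw [show g⁻¹ * h * g⁻¹⁻¹ * h⁻¹ = g⁻¹ * (g * h * g⁻¹ * h⁻¹)⁻¹ * g by group]
    exact conj_mem_of_mem_normalizer' (hW ((closure_le _).2 hs hg)) (inv_mem h1)

theorem f4b_sym {W : Subgroup H} {g h : H} (e : g * h * g⁻¹ * h⁻¹ ∈ W) : h * g * h⁻¹ * g⁻¹ ∈ W := by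
  have := inv_mem e
  rwa [show (g * h * g⁻¹ * h⁻¹)⁻¹ = h * g * h⁻¹ * g⁻¹ by group] at this

end f4bAbs

local notation "xx" => xC chevF4 K
local notation "Γ" => chevF4.group K

/-- The positive roots. -/
def f4bP : List ℕ := [24, 25, 26, 27, 28, 29, 30, 31, 32, 33, 34, 35, 36, 37, 38, 39, 40, 41, 42, 43, 44,
  45, 46, 47]

/-- Flatten a list of pairs. -/
def f4bFl : List (ℕ × ℕ) → List ℕ
  | [] => []
  | p :: L => p.1 :: p.2 :: f4bFl L

/-- Commutators of positive roots with roots from `l` lie in `l'`. -/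
def f4bC (l l' : List ℕ) : Prop :=
  ∀ r ∈ f4bP, ∀ s ∈ l, r ≠ s → ∀ c ∈ chevF4.commTerms r s, (c.2.1 % 2 = 0 ∧ c.1 < 48) ∨ c.1 ∈ l'

instance f4bCd (l l' : List ℕ) : Decidable (f4bC l l') := by unfold f4bC; infer_instance

/-- The central series condition. -/
def f4bOk : List (ℕ × ℕ) → Prop
  | [] => True
  | p :: L => (f4bC (f4bFl (p :: L)) (f4bFl L) ∧ (f4bFl (p :: L)).Nodup ∧
      (∀ r ∈ f4bFl (p :: L), r ∈ f4bP) ∧ (rhoF4 p.1 = p.2 ∧ expF4 p.1 = 2) ∧
      (rhoF4 p.2 = p.1 ∧ expF4 p.2 = 1)) ∧ f4bOk L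

/-- The pairs. -/
def f4bL : List (ℕ × ℕ) := [(33, 24), (27, 25), (34, 26), (28, 30), (29, 41), (35, 31), (36, 42), (37, 32),
  (38, 43), (39, 45), (40, 46), (44, 47)]

theorem f4b_ok : f4bOk f4bL := by
  simp only [f4bL, f4bOk, and_true]
  refine ⟨?_, ?_, ?_, ?_, ?_, ?_, ?_, ?_, ?_, ?_, ?_, ?_⟩ <;> decide +kernel

theorem f4b_pos : ∀ r ∈ f4bP, chevF4.IsPosRoot r ∧ r < chevF4.nroots ∧ ∀ s ∈ f4bP, s ≠ chevF4.neg r := by
  decide +kernel

theorem f4b_pos' : ∀ r < 48, chevF4.IsPosRoot r → r ∈ f4bFl f4bL := by decide +kernel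

variable (K) in
/-- The group generated by the root groups of a list. -/
def f4bV (l : List ℕ) : Subgroup Γ := XS xx {r | r ∈ l}

variable (S : ChevSys rootTableF4 (xC chevF4 K))
include S

theorem f4b_gen {l l' : List ℕ} (h : f4bC l l') (hl : ∀ r ∈ l, r ∈ f4bP) {r s : ℕ} (hr : r ∈ f4bP)
    (hs : s ∈ l) (a b : K) : (xx s b)⁻¹ * (xx r a)⁻¹ * xx s b * xx r a ∈ f4bV K l' := by
  obtain ⟨-, r1, r2⟩ := f4b_pos r hr
  by_cases e : r = s
  · subst e
    rw [mul_assoc, mul_assoc, S.st.x_comm r1 b a]; simp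
  rw [mul_assoc, mul_assoc, S.st.comm r s r1 (f4b_pos s (hl s hs)).2.1 (Ne.symm e) (r2 s (hl s hs)),
    show ∀ u v w : Γ, u⁻¹ * (v⁻¹ * (v * u * w)) = w from fun u v w => by group]
  refine word_mem fun p hp => ?_
  obtain ⟨c, hc, rfl⟩ := List.mem_map.1 hp
  rcases h r hr s hs e c hc with ⟨h1, h2⟩ | h1
  · obtain ⟨k, hk⟩ := Int.dvd_of_emod_eq_zero h1
    have : ((c.2.1 : ℤ) : K) = 0 := by rw [hk]; simp [CharTwo.two_eq_zero]
    simp only [this, zero_mul]
    rw [x0 _ h2]; exact one_mem _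
  · exact mem_XS h1 _

theorem f4b_inv {r : ℕ} (hr : r ∈ f4bP) (a : K) : (xx r a)⁻¹ = xx r a := by
  rw [← S.st.x_neg (f4b_pos r hr).2.1, CharTwo.neg_eq]

theorem f4b_norm {l : List ℕ} (h : f4bC l l) (hl : ∀ r ∈ l, r ∈ f4bP) :
    f4bV K f4bP ≤ normalizer (f4bV K l : Set Γ) := by
  have key : ∀ r ∈ f4bP, ∀ a : K, ∀ g ∈ f4bV K l, xx r a * g * (xx r a)⁻¹ ∈ f4bV K l := by
    intro r hr a g hg
    refine conj_mem_of_XS (fun s hs b => ?_) hg
    have := mul_mem (mem_XS (x := xx) hs b) (f4b_gen S h hl hr hs a b)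
    rw [f4b_inv S hr] at this ⊢
    simpa [mul_assoc, f4bV] using this
  refine conj_mem_of_mem_closure ?_
  rintro _ ⟨r, hr, a, rfl⟩
  refine ⟨key r hr a, fun g hg => ?_⟩
  have := key r hr a g hg
  rw [f4b_inv S hr] at this ⊢
  exact this

theorem f4b_comm {l l' : List ℕ} (h : f4bC l l') (hl : ∀ r ∈ l, r ∈ f4bP)
    (hN : f4bV K f4bP ≤ normalizer (f4bV K l' : Set Γ)) {g : Γ} (hg : g ∈ f4bV K f4bP) {v : Γ}
    (hv : v ∈ f4bV K l) : v * g * v⁻¹ * g⁻¹ ∈ f4bV K l' := by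
  refine f4b_clo hN ?_ ?_ v hv
  · rintro _ ⟨s, hs, b, rfl⟩
    exact mem_XS (hl s hs) b
  · rintro _ ⟨s, hs, b, rfl⟩
    refine f4b_sym (f4b_clo hN subset_closure ?_ g hg)
    rintro _ ⟨r, hr, a, rfl⟩
    have := f4b_gen S h hl hr hs a b
    rw [f4b_inv S hr, f4b_inv S (hl s hs)] at this
    refine f4b_sym ?_
    rw [f4b_inv S hr, f4b_inv S (hl s hs)]
    exact this

theorem f4b_dec {r s : ℕ} {l : List ℕ} (h : f4bC (r :: s :: l) l) (hl : ∀ k ∈ r :: s :: l, k ∈ f4bP)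
    (hN : f4bV K f4bP ≤ normalizer (f4bV K l : Set Γ)) {g : Γ} (hg : g ∈ f4bV K (r :: s :: l)) :
    ∃ a b, ∃ w ∈ f4bV K l, g = xx r a * xx s b * w := by
  have hr : r ∈ f4bP := hl r (by simp)
  have hs : s ∈ f4bP := hl s (by simp)
  have r1 := (f4b_pos r hr).2.1
  have s1 := (f4b_pos s hs).2.1
  have rP : ∀ a, xx r a ∈ f4bV K f4bP := fun a => mem_XS hr a
  have sP : ∀ a, xx s a ∈ f4bV K f4bP := fun a => mem_XS hs a
  have c : ∀ a b, (xx s b)⁻¹ * (xx r a)⁻¹ * xx s b * xx r a ∈ f4bV K l :=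
    f4b_gen S h hl hr (by simp)
  induction hg using closure_induction with
  | mem g hg =>
    obtain ⟨k, hk, a, rfl⟩ := hg
    rcases List.mem_cons.1 hk with rfl | hk
    · exact ⟨a, 0, 1, one_mem _, by rw [x0 _ s1]; simp⟩
    rcases List.mem_cons.1 hk with rfl | hk
    · exact ⟨0, a, 1, one_mem _, by rw [x0 _ r1]; simp⟩
    · exact ⟨0, 0, _, mem_XS hk a, by rw [x0 _ r1, x0 _ s1]; simp⟩
  | one => exact ⟨0, 0, 1, one_mem _, by rw [x0 _ r1, x0 _ s1]; simp⟩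
  | mul g g' _ _ h1 h2 =>
    obtain ⟨a, b, w, hw, rfl⟩ := h1
    obtain ⟨a', b', w', hw', rfl⟩ := h2
    refine ⟨a + a', b + b', (xx s b')⁻¹ * ((xx s b)⁻¹ * (xx r a')⁻¹ * xx s b * xx r a' *
      ((xx r a')⁻¹ * w * xx r a')) * xx s b' * w', mul_mem (conj_mem_of_mem_normalizer' (hN (sP b'))
        (mul_mem (c a' b) (conj_mem_of_mem_normalizer' (hN (rP a')) hw))) hw', ?_⟩
    rw [← S.st.add r r1, ← S.st.add s s1]; group
  | inv g _ h1 =>
    obtain ⟨a, b, w, hw, rfl⟩ := h1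
    refine ⟨a, b, (xx s b)⁻¹ * ((xx r a)⁻¹ * w⁻¹ * xx r a) * xx s b *
      ((xx s b)⁻¹ * (xx r a)⁻¹ * xx s b * xx r a), mul_mem (conj_mem_of_mem_normalizer' (hN (sP b))
        (conj_mem_of_mem_normalizer' (hN (rP a)) (inv_mem hw))) (c a b), ?_⟩
    rw [mul_inv_rev, mul_inv_rev]
    nth_rewrite 1 [f4b_inv S hr, f4b_inv S hs]
    group

theorem f4b_main {L : List (ℕ × ℕ)} (h : f4bOk L) :
    f4bV K f4bP ≤ normalizer (f4bV K (f4bFl L) : Set Γ) ∧ (∀ r ∈ f4bFl L, r ∈ f4bP) ∧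
    (∀ g ∈ f4bV K (f4bFl L), F4.sig S θ hθ0 g ∈ f4bV K (f4bFl L)) ∧
    (∀ g ∈ f4bV K (f4bFl L), ∃ c : List K, c.length = (f4bFl L).length ∧
      g = word xx ((f4bFl L).zip c)) ∧
    ∀ g ∈ f4bV K (f4bFl L), F4.sig S θ hθ0 g * g = 1 →
      ∃ u ∈ f4bV K f4bP, g = F4.sig S θ hθ0 u * u⁻¹ := by
  induction L with
  | nil =>
    have e : f4bV K (f4bFl []) = ⊥ := by simp [f4bV, f4bFl, XS_empty]
    rw [e]
    refine ⟨le_normalizer_of_normal, by simp [f4bFl], by simp, by simp [f4bFl],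
      fun g hg _ => ⟨1, one_mem _, ?_⟩⟩
    simpa using hg
  | cons p L ih =>
    obtain ⟨⟨hc, nd, hl, hp1, hp2⟩, h⟩ := h
    obtain ⟨N, -, i1, i2, i3⟩ := ih h
    obtain ⟨r, s⟩ := p
    change f4bC (r :: s :: f4bFl L) _ at hc
    change (r :: s :: f4bFl L).Nodup at nd
    change ∀ k ∈ r :: s :: f4bFl L, _ at hl
    rw [show f4bFl ((r, s) :: L) = r :: s :: f4bFl L from rfl]
    have hr : r ∈ f4bP := hl r (by simp)
    have hs : s ∈ f4bP := hl s (by simp)
    have r1 := (f4b_pos r hr).2.1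
    have s1 := (f4b_pos s hs).2.1
    have sr := F4.sig_short S θ hθ0 r s ⟨r1, hp1⟩
    have ss := F4.sig_long S θ hθ0 s r ⟨s1, hp2⟩
    have le : f4bV K (f4bFl L) ≤ f4bV K (r :: s :: f4bFl L) := XS_mono fun k hk => by
      simp only [Set.mem_ofPred_eq, List.mem_cons] at hk ⊢; tauto
    have leP : f4bV K (r :: s :: f4bFl L) ≤ f4bV K f4bP := XS_mono hl
    have rV : ∀ a, xx r a ∈ f4bV K (r :: s :: f4bFl L) := fun a => mem_XS (by simp) a
    have sV : ∀ a, xx s a ∈ f4bV K (r :: s :: f4bFl L) := fun a => mem_XS (by simp) a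
    have uq : ∀ a b, xx r a * xx s b ∈ f4bV K (f4bFl L) → b = 0 := by
      intro a b hab
      obtain ⟨c, hc1, hc2⟩ := i2 _ hab
      have z : ∀ l : List ℕ, (∀ k ∈ l, k ∈ f4bP) → word xx (l.zip (List.replicate l.length 0)) = 1 := by
        intro l hl
        induction l with
        | nil => rfl
        | cons k l ih =>
          rw [List.length_cons, List.replicate_succ, List.zip_cons_cons, word_cons,
            ih fun j hj => hl j (List.mem_cons_of_mem _ hj), x0 _ (f4b_pos k (hl k (by simp))).2.1, one_mul]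
      have := S.inj_list rootTableF4.nil_pos nd (fun k hk => (f4b_pos k (hl k hk)).1)
        (a := a :: b :: List.replicate (f4bFl L).length 0) (b := 0 :: 0 :: c) (by simp) (by simp [hc1]) (by
          simp only [List.zip_cons_cons, word_cons]
          rw [z _ fun k hk => hl k (by simp [hk]), ← hc2, x0 _ r1, x0 _ s1]
          simp)
      simp only [List.cons.injEq] at this
      exact this.2.1
    refine ⟨f4b_norm S (fun a ha b hb e c hc' => (hc a ha b hb e c hc').imp_right fun h => by simp [h]) hl,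
      hl, fun g hg => ?_, fun g hg => ?_, fun g hg e => ?_⟩
    · obtain ⟨a, b, w, hw, rfl⟩ := f4b_dec S hc hl N hg
      rw [map_mul, map_mul, sr, ss]
      exact mul_mem (mul_mem (sV _) (rV _)) (le (i1 w hw))
    · obtain ⟨a, b, w, hw, rfl⟩ := f4b_dec S hc hl N hg
      obtain ⟨c, hc1, rfl⟩ := i2 w hw
      exact ⟨a :: b :: c, by simp [hc1], by simp [mul_assoc]⟩
    · obtain ⟨a, b, w, hw, rfl⟩ := f4b_dec S hc hl N hg
      have cm := fun {g v : Γ} (hg : g ∈ f4bV K f4bP) (hv : v ∈ f4bV K (r :: s :: f4bFl L)) =>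
        f4b_comm S hc hl N hg hv
      have hb : θ a ^ 2 + b = 0 := by
        refine uq (θ b + a) _ ?_
        rw [map_mul, map_mul, sr, ss] at e
        set w' := F4.sig S θ hθ0 w
        have e1 : xx r (θ b) * xx r a * (xx s (θ a ^ 2) * xx s b) =
            (xx r (θ b) * xx r a * xx s (θ a ^ 2) * (xx r (θ b) * xx r a)⁻¹ * (xx s (θ a ^ 2))⁻¹) *
            (xx s (θ a ^ 2) * xx r (θ b) * w'⁻¹ * (xx s (θ a ^ 2) * xx r (θ b))⁻¹) *
            (xx s (θ a ^ 2) * xx r (θ b) * w' * (xx r a * xx s b * w)) * w⁻¹ := by group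
        rw [← S.st.add r r1, ← S.st.add s s1, e1, e, mul_one]
        exact mul_mem (mul_mem (cm (leP (sV _)) (mul_mem (rV _) (rV _)))
          (conj_mem_of_mem_normalizer (N (leP (mul_mem (sV _) (rV _)))) (inv_mem (i1 w hw)))) (inv_mem hw)
      have hb' : b = θ a ^ 2 := by rw [← CharTwo.neg_eq (θ a ^ 2)]; linear_combination hb
      have hg' : (F4.sig S θ hθ0 (xx r a))⁻¹ * (xx r a * xx s b * w) * xx r a ∈ f4bV K (f4bFl L) := by
        rw [sr, ← hb', show (xx s b)⁻¹ * (xx r a * xx s b * w) * xx r a =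
          (xx s b)⁻¹ * (xx r a)⁻¹⁻¹ * xx s b * (xx r a)⁻¹⁻¹⁻¹ * (xx r a * w * (xx r a)⁻¹⁻¹) by group,
          f4b_inv S hr, f4b_inv S hr, f4b_inv S hr]
        have h1 := f4b_gen S hc hl hr (s := s) (by simp) a b
        have h2 := conj_mem_of_mem_normalizer (N (leP (rV a))) hw
        rw [f4b_inv S hr] at h1 h2
        exact mul_mem h1 h2
      have s2 : F4.sig S θ hθ0 (F4.sig S θ hθ0 (xx r a)) = xx r a := by
        rw [sr, ss, map_pow, hθ0]
      obtain ⟨u, hu, e2⟩ := i3 _ hg' (by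
        rw [map_mul, map_mul, map_inv, s2]
        calc _ = (xx r a)⁻¹ * (F4.sig S θ hθ0 (xx r a * xx s b * w) * (xx r a * xx s b * w)) * xx r a := by
              group
          _ = 1 := by rw [e]; simp)
      refine ⟨xx r a * u, mul_mem (leP (rV a)) hu, ?_⟩
      rw [map_mul, mul_inv_rev, mul_assoc (F4.sig S θ hθ0 (xx r a)), ← mul_assoc (F4.sig S θ hθ0 u), ← e2]
      group

theorem f4b_U : S.R.U = f4bV K f4bP ∧ S.R.U = f4bV K (f4bFl f4bL) := by
  have h1 : S.R.U ≤ f4bV K (f4bFl f4bL) := S.U_eq ▸ XS_mono fun r hr => f4b_pos' r hr.1 hr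
  have h2 : f4bV K (f4bFl f4bL) ≤ f4bV K f4bP := XS_mono (f4b_main S f4b_ok).2.1
  have h3 : f4bV K f4bP ≤ S.R.U := S.U_eq ▸ XS_mono fun r hr => (f4b_pos r hr).1
  exact ⟨le_antisymm (h1.trans h2) h3, le_antisymm h1 (h2.trans h3)⟩

theorem f4b_sqrt {g : Γ} (h : g * g = 1) : ∃ y, y * y = g := by
  have := S.finite
  by_cases h1 : g = 1
  · exact ⟨1, by simp [h1]⟩
  obtain ⟨Q, hQ, hc⟩ := S2174.classOK.exists_conj rootTableF4 (t := g)
    (orderOf_eq_prime (by rw [sq, h]) h1)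
  obtain ⟨c, hc⟩ := isConj_iff.1 hc.symm
  have key : ∃ W : List ℕ, oprod xx (W ++ W) 1 = oprod xx Q 1 := by
    simp only [List.mem_cons, List.not_mem_nil, or_false] at hQ
    rcases hQ with rfl | rfl | rfl | rfl
    · exact ⟨[46, 24], oprod_eq_of_eqB (by decide +kernel)⟩
    · exact ⟨[40, 33], oprod_eq_of_eqB (by decide +kernel)⟩
    · exact ⟨[33, 24, 40, 46], oprod_eq_of_eqB (by decide +kernel)⟩
    · exact ⟨[28, 36, 31, 41], oprod_eq_of_eqB (by decide +kernel)⟩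
  obtain ⟨W, hW⟩ := key
  refine ⟨c * oprod xx W 1 * c⁻¹, ?_⟩
  rw [← hc, ← hW, oprod_append]; group

theorem f4b_two : IsPGroup 2 S.R.U := by
  obtain ⟨n, hn⟩ := FiniteField.card K 2
  refine IsPGroup.of_card (n := n * 24) ?_
  rw [S.U_eq, S.nd.card_Us S.st, Nat.card_eq_fintype_card, hn.2, ← pow_mul]
  rfl

omit S in
theorem out_F4 {R : Rt K G} (S : ChevSys rootTableF4 (xC chevF4 K)) (φ : chevF4.group K →* G)
    (hφ : Function.Injective φ) (hs : ∀ g, φ (F4.sig S θ hθ0 g) = R.t * φ g * R.t⁻¹) : Out R (chevF4.group K) := by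
  obtain ⟨-, -, h1, -, h2⟩ := f4b_main S f4b_ok
  rw [← (f4b_U S).2] at h1 h2
  rw [← (f4b_U S).1] at h2
  refine ⟨φ.range, S.R.U.map φ, map_le_range _ _, (f4b_two S).map φ, ?_, ?_, ?_, ?_, ?_,
    ⟨(MonoidHom.ofInjective hφ).symm⟩⟩
  · rintro _ ⟨s, hs', rfl⟩
    exact ⟨_, h1 s hs', hs s⟩
  · rintro _ ⟨s, -, rfl⟩ e
    obtain ⟨y, rfl⟩ := f4b_sqrt S (g := s) (hφ (by rw [map_mul, e, map_one]))
    exact ⟨φ y, by rw [map_mul]⟩
  · rintro _ ⟨s, hs', rfl⟩ e
    obtain ⟨u, hu, rfl⟩ := h2 s hs' (hφ (by rw [map_mul, hs, R.t_inv, map_one, ← e]; group))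
    refine ⟨_, ⟨u, hu, rfl⟩, ?_⟩
    rw [map_mul, hs, map_inv, R.t_inv, ← mul_assoc, ← mul_assoc, ← mul_assoc, R.tt, one_mul]
  · rw [Nat.card_eq_fintype_card, ← F4.card_U S θ hθ0,
      Nat.card_congr (equivMapOfInjective _ φ hφ).toEquiv]
    refine card_le_of_le ?_
    rintro _ ⟨s, ⟨hs1, hs2⟩, rfl⟩
    refine ⟨⟨s, hs1, rfl⟩, mem_centralizer_singleton_iff.2 ?_⟩
    have e : F4.sig S θ hθ0 s = s := hs2
    have := hs s
    rw [e] at this
    exact (eq_mul_inv_iff_mul_eq.1 this)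
  · obtain ⟨i1, i2⟩ := isSimpleGroup_group (D := chevF4) (F := K) (by simp) fun _ => R.big
    have : commutator (chevF4.group K) = ⊤ := by
      rcases (inferInstance : (commutator (chevF4.group K)).Normal).eq_bot_or_eq_top with e | e
      · exact absurd ⟨⟨fun a b => commutatorElement_eq_one_iff_mul_comm.1 (mem_bot.1
          (e ▸ commutator_mem_commutator (mem_top a) (mem_top b)))⟩⟩ i2
      · exact e
    rw [MonoidHom.range_eq_map, ← map_commutator, ← _root_.commutator_def, this]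

end Cfsg.Agent.S2F
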