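import Cfsg.Agent.S2F.Base1
import Cfsg.Agent.TIB.Bas
import Cfsg.Agent.PLocal.AmbSyl
import Cfsg.Agent.PLocal.Standard

/-!
Fusion of `t`.

General remarks (all S2F stubs): read `S2F/Def.lean` (definitions, conventions) and `S2F/Base*.lean` first. Identities in `U K`
are proved by `ext <;> simp only [UE, ...hypotheses] <;> grind` (add `ζ`, `ψ`, `pr` to the simp set); conjugation is `g * x * g⁻¹`.
Keep the statements; add lemmas / extra files freely (unique names).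

Notation: `Kc = C(L)`, `L ∩ Kc = 1` (`Re.eq_one_of_central`), `D` = class of `t`, `z = N (X4 1)`, `u₅ = N (X5 1)`.
(a) A `2`-element `c` normalising `L` is `x * k`, `x ∈ L`, `k ∈ Kc` (`twoN`), with `x, k` `2`-elements.  Two commuting involutions of `Kc`
are equal and a `2`-subgroup of `Kc` is cyclic (`cyc`; cf. `Std.eq_of_sq`, `eq_of_commute_of_cyclic_sylow`).
(b) `D ∩ L = ∅`.  By `inv_classes` an involution of `L` is `L`-conjugate to `N v₀`, where `v₀ = ⁅x, y⁆` commutes with `x, y ∈ U K`: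
`X4 1 = ⁅X6 1, X1 1⁆`, and `⁅X8 1, X2 1⁆ = X4 1 * X5 1 * X6 1` is `C`-conjugate to `X5 1` (`Loc.cls5`).  If `g (N v₀) g⁻¹ = t` then
`P = g N(⟨x,y⟩) g⁻¹` is a `2`-subgroup of `C(t) ≤ N(L)`; `g (N x) g⁻¹ = x₁ k₁`, `g (N y) g⁻¹ = y₁ k₂`; the projection `P → Kc` is a hom, so
`k₁, k₂` lie in a `2`-subgroup of `Kc` and commute; hence `t = ⁅x₁, y₁⁆ ∈ L`, contradiction.
(c) `St0.fus`.  `zs` gives `d = g t g⁻¹ ≠ t` commuting with `t`; by (a),(b) `d = t * u`, `u ∈ L` an involution.  Suppose `t z ∉ D`.  Then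
`u ~_L u₅`, so `t u₅ ∈ D`, and `u₅ ≁_L z`.  Claim: `N(U0)` is Sylow in `C_L(u₅)`.  [`U0 = C_U(X5 1)`, `Z(U0) = X4 X5`.  Use
`sylIn_of_max`/normaliser condition: let `x ∈ C_L(u₅)` be a `2`-element normalising `N(U0)`.  It normalises `Z`, and `x z x⁻¹` is not of the
form `N (X4 s * X5 e)`, `e ≠ 0` (those are `~ u₅` by `cls5`), so `x z x⁻¹ = N (X4 s)`; with `l κ` moving `X4 1` to `X4 s`,
`m = (l κ)⁻¹ x ∈ C` (`cen`); `m u₅ m⁻¹ = N (X5 c)` so `m = N u * h ν` (`Loc.inB_Y`); `x = l κ * N u * h ν` is a `2`-element, so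
`κ = ν = 1` (powers have the form `N v * l κ^i * h ν^i`, `lh_eq_N`, `eq_one_of_pow_two_pow`); `x = N u`, `u ∈ U0`.]
Let `Rk` be a Sylow `2`-subgroup of `Kc` containing `t` (cyclic).  `T₀ = N(U0) Rk` is Sylow in `C(t) ∩ C(u₅)` (a `2`-subgroup `B ≥ T₀`
consists of `x k`; the projections of `B` to `C_L(u₅)` and `Kc` are `2`-groups containing `N(U0)`, `Rk`).
Put `d = t u₅`; take `g` with `g d g⁻¹ = t`.  Then `g t g⁻¹ = t u'` with `u' ~_L u₅` as before; adjusting `g` by `L`: `g t g⁻¹ = d`.  So `g`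
normalises `C(t) ∩ C(d) = C(t) ∩ C(u₅)`; by `SylIn.frattini` we may assume `g` normalises `T₀` (still swapping `t, d`).  Then `g` permutes
`Ω = {x ∈ Z(T₀) | x² = 1} = Y ∪ t Y`, `Y = N(X4 X5)`, and `D ∩ Ω = {t} ∪ t (Y - V₄)` (by (b), `cls5`, and `t N(X4 s) ~ t z` via `l`).
Every `y ∈ Y` is a product of two elements of `D ∩ Ω ⊆ tY` (`y = t (t y)` or `(t u₅)(t u₅ y)`), so `g^{±1}` normalises `Y`; hence
`g (t N(X4 s)) g⁻¹ = t N (X4 (f s))` for `s ≠ 0`.  With `x ∉ {0,1}`: `t = (t X4 1)(t X4 x)(t X4 (1+x))`, so `d = g t g⁻¹ ∈ t V₄`, false.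
(d) `St0.two`.  Enough: no `r ∈ Kc` has `r² = t` (then a `2`-element `k` of `Kc` commuting with `t` is `1` or `t`, `Std.eq_of_pow`).
Let `r² = t`, `T ≥ N(U)⟨r⟩` Sylow in `C(t)`.  For `x k ∈ T`: `T ∩ L = N(U)` (`syl`) is normal in `T`, so the `2`-element `x ∈ L` normalises
`N(U)`, so `x ∈ N(U)`; thus `T ≤ N(U) Kc` centralises `z`, and `T` is also Sylow in `C(t z)`.  By (c) and Sylow there is `g ∈ N(T)` with
`g t g⁻¹ = t z`.  `r ∈ Z(T)` (`T ∩ Kc` cyclic), so `g r g⁻¹ = N v * k ∈ Z(T)`, `v ∈ Zs` (`mem_Zs_of_comm`), and `t z = (N v k)² = k² ∈ Kc`,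
so `z ∈ Kc`, contradiction.
-/

set_option autoImplicit false
set_option linter.unusedSectionVars false
set_option linter.unusedSimpArgs false
set_option maxRecDepth 20000

namespace Cfsg.Agent.S2F

open Subgroup Cfsg.Agent.Oct Cfsg.Agent.Fus Cfsg.Agent.PLocal.Amb Cfsg.Agent.TIB
open scoped commutatorElement

variable {K : Type*} [Field K] [Tw K] [Finite K] {G : Type*} [Group G] [Finite G]

theorem mem_U0_of {u : U K} (h : u * X5 1 = X5 1 * u) : u ∈ U0 := by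
  have a1 := congrArg U.x4 h
  have a2 := congrArg U.x6 h
  simp only [UE] at a1 a2
  rw [mem_U0]; grind

theorem comm_U0 {u : U K} (h : u ∈ U0) (s e : K) : u * (X4 s * X5 e) = X4 s * X5 e * u := by
  rw [mem_U0] at h
  ext <;> simp only [UE, h] <;> grind

theorem eq_of_cU0 {u : U K} (h : ∀ v ∈ U0, u * v = v * u) : u = X4 u.x4 * X5 u.x5 := by
  obtain ⟨y2, y8⟩ := mem_U0_of (h _ ⟨rfl, rfl⟩)
  have b1 := h (X1 1) ⟨rfl, rfl⟩
  have b8 := h (X8 1) ⟨rfl, rfl⟩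
  have a1 := congrArg U.y6 b1
  have a2 := congrArg U.y6 b8
  simp only [UE, y2, y8] at a1 a2
  have x8 : u.x8 = 0 := by grind
  have x1 : u.x1 = 0 := by grind
  have a3 := congrArg U.x5 b8
  have a4 := congrArg U.x6 b8
  have a5 := congrArg U.x6 (h (X7 1) ⟨rfl, rfl⟩)
  have a6 := congrArg U.x2 b1
  simp only [UE, y2, y8, x8, x1] at a3 a4 a5 a6
  have x2 : u.x2 = 0 := by grind
  have y4 : u.y4 = 0 := by grind
  have y6 : u.y6 = 0 := by grind
  have a7 := congrArg U.x3 b1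
  simp only [UE, y2, y8, x8, x1, x2, y4, y6] at a4 a7
  have x3 : u.x3 = 0 := by grind
  have x7 : u.x7 = 0 := by grind
  have a8 := congrArg U.x4 b1
  simp only [UE, y2, y8, x8, x1, x2, y4, y6, x3, x7] at a8
  have x6 : u.x6 = 0 := by grind
  ext <;> simp only [UE, y2, y8, x8, x1, x2, y4, y6, x3, x7, x6]

theorem X45_mul (s e s' e' : K) : X4 s * X5 e * (X4 s' * X5 e') = X4 (s + s') * X5 (e + e') := by
  ext <;> simp only [UE]

theorem X45_mem (s e : K) : X4 s * X5 e ∈ (U0 : Subgroup (U K)) := by simp only [mem_U0, UE, and_self]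

/-- The projection to `A` of a subgroup of `A × C`. -/
def pj (A C B : Subgroup G) (h : ∀ a ∈ A, ∀ c ∈ C, Commute a c) : Subgroup G where
  carrier := {x | x ∈ A ∧ ∃ k ∈ C, x * k ∈ B}
  one_mem' := ⟨one_mem _, 1, one_mem _, by simp⟩
  mul_mem' := fun {x y} ⟨hx, k, hk, r⟩ ⟨hy, k', hk', r'⟩ => ⟨mul_mem hx hy, _, mul_mem hk hk', by
    rw [(h y hy k hk).mul_mul_mul_comm]; exact mul_mem r r'⟩
  inv_mem' := fun {x} ⟨hx, k, hk, r⟩ => ⟨inv_mem hx, _, inv_mem hk, by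
    rw [← mul_inv_rev, ← (h x hx k hk).eq]; exact inv_mem r⟩

theorem pj_two {A C B : Subgroup G} (h : ∀ a ∈ A, ∀ c ∈ C, Commute a c) (h1 : ∀ x ∈ A, x ∈ C → x = 1)
    (hB : IsPGroup 2 B) : IsPGroup 2 (pj A C B h) := isPGroup_iff.2 fun x ⟨hx, k, hk, r⟩ =>
  (isPGroup_iff.1 hB _ r).imp fun n e => h1 _ (pow_mem hx _) (by
    rw [(h x hx k hk).mul_pow, mul_eq_one_iff_eq_inv] at e
    exact e ▸ inv_mem (pow_mem hk _))

variable {R : Rt K G}

theorem cLK : ∀ a ∈ R.L, ∀ c ∈ 𝐂[R.L], Commute a c := fun a ha c hc => hc a ha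

theorem cKL : ∀ c ∈ 𝐂[R.L], ∀ a ∈ R.L, Commute c a := fun c hc a ha => (cLK a ha c hc).symm

theorem t_mem_K : R.t ∈ 𝐂[R.L] := mem_C.2 R.tL

theorem t_ne_one : R.t ≠ 1 := fun e => R.t_not (e ▸ one_mem _)

theorem isSyl_N : IsSyl 2 R.N.range R.L :=
  have k : R.N.range ≤ R.L := by rintro _ ⟨u, rfl⟩; exact R.N_mem_L u
  ⟨k, R.syl.isPGroup k, fun _ hB h1 h2 => (R.syl.eq_of_le k hB h1 h2).le⟩

/-- `2`-elements of `L` centralizing `V₄` and `u₅` -/
theorem mem_N_U0 {x : G} (hx : x ∈ R.C) (h2 : Two x) (h5 : Commute x (R.N (X5 1))) : ∃ u ∈ U0, x = R.N u := by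
  obtain ⟨u, rfl⟩ := (Loc.inB_Y hx (cn_eq h5) (by simp only [mem_Ys, UE, and_self]) one_ne_zero
    (by simp only [mem_Ys, UE, and_self])).two h2
  exact ⟨u, mem_U0_of (R.inj (by simpa using h5.eq)), rfl⟩

theorem eq_of_cN {x : G} (hx : x ∈ R.L) (h2 : x * x = 1) (h : ∀ u ∈ U0, Commute x (R.N u)) :
    ∃ s e, x = R.N (X4 s * X5 e) := by
  obtain ⟨u, -, rfl⟩ := mem_N_U0 (R.cen x hx (h _ ⟨rfl, rfl⟩)) (Two.of_sq h2) (h _ ⟨rfl, rfl⟩)
  exact ⟨_, _, congrArg _ (eq_of_cU0 fun v hv => R.inj (by simpa using (h v hv).eq))⟩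

namespace St0

variable (h : St0 R) {B : Subgroup G}
include h

theorem dec (hB : IsPGroup 2 B) (hc : B ≤ centralizer {R.t}) {b : G} (hb : b ∈ B) :
    ∃ x ∈ pj R.L 𝐂[R.L] B cLK, ∃ k ∈ pj 𝐂[R.L] R.L B cKL, b = x * k := by
  obtain ⟨x, hx, k, hk, rfl⟩ := h.twoN b (h.nrm b (mem_centralizer_singleton_iff.1 (hc hb))) (isPGroup_iff.1 hB b hb)
  exact ⟨x, ⟨hx, k, hk, hb⟩, k, ⟨hk, x, hx, (cLK x hx k hk).eq ▸ hb⟩, rfl⟩

theorem commK (hB : IsPGroup 2 B) {k k' : G} (hk : k ∈ pj 𝐂[R.L] R.L B cKL) (hk' : k' ∈ pj 𝐂[R.L] R.L B cKL) :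
    Commute k k' := by
  have le : pj 𝐂[R.L] R.L B cKL ≤ 𝐂[R.L] := fun _ r => r.1
  obtain ⟨P, hP⟩ := (isPGroup_subgroupOf (pj_two cKL (fun x a b => R.eq_one_of_central b a) hB) 𝐂[R.L]).exists_le_sylow
  have := h.cyc P
  have e := (IsCyclic.commGroup (α := P)).mul_comm ⟨⟨k, hk.1⟩, hP hk⟩ ⟨⟨k', hk'.1⟩, hP hk'⟩
  exact congrArg (·.1.1) e

theorem eqK {k : G} (hk : k ∈ 𝐂[R.L]) (h2 : k * k = 1) (hc : Commute k R.t) : k = 1 ∨ k = R.t :=
  or_iff_not_imp_left.2 fun k1 => PLocal.eq_of_commute_of_cyclic_sylow h.cyc hk t_mem_K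
    (orderOf_eq_prime (by rw [sq, h2]) k1) (orderOf_eq_prime (by rw [sq, R.tt]) t_ne_one) hc

/-- an involution of `C(t)` -/
theorem invol {b : G} (h2 : b * b = 1) (hc : Commute b R.t) : b ∈ R.L ∨ R.t * b ∈ R.L := by
  obtain ⟨x, hx, k, hk, rfl⟩ := h.twoN b (h.nrm b hc) (Two.of_sq h2)
  have c := cLK x hx k hk
  rw [sq_mul c, mul_eq_one_iff_eq_inv] at h2
  have k2 : x * x = 1 := R.eq_one_of_central (mul_mem hx hx) (h2 ▸ inv_mem (mul_mem hk hk))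
  rcases h.eqK hk (by rwa [k2, eq_comm, inv_eq_one] at h2) (by
    simpa using (cLK x hx _ t_mem_K).inv_left.mul_left hc) with rfl | rfl
  · exact Or.inl (by simpa using hx)
  · exact Or.inr (by rwa [c.eq, ← mul_assoc, R.tt, one_mul])

theorem not_conj {x : G} (hx : x ∈ R.L) (g : G) : cn g x ≠ R.t := fun e => by
  have key : ∀ (a b : U K) g, Commute a ⁅a, b⁆ → Commute b ⁅a, b⁆ → cn g (R.N ⁅a, b⁆) ≠ R.t := fun a b g ha hb e => by
    have hB : IsPGroup 2 ↥(cj(g, R.N.range) ⊓ centralizer {R.t}) := (isPGroup_cj g isSyl_N.pgrp).to_inf_left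
    have m : ∀ u, Commute u ⁅a, b⁆ → cn g (R.N u) ∈ cj(g, R.N.range) ⊓ centralizer {R.t} := fun u r =>
      ⟨cn_mem_cj.2 ⟨u, rfl⟩, mem_centralizer_singleton_iff.2 (e ▸ comm_cn.2 (r.map R.N))⟩
    obtain ⟨x, hx, k, hk, e1⟩ := h.dec hB inf_le_right (m a ha)
    obtain ⟨x', hx', k', hk', e2⟩ := h.dec hB inf_le_right (m b hb)
    refine R.t_not ?_
    rw [← e, map_commutatorElement, commutatorElement_def, cn_mul, cn_mul, cn_mul, cn_inv, cn_inv, e1, e2,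
      (cLK x hx.1 k hk.1).mul_inv, (cLK x' hx'.1 k' hk'.1).mul_inv, (cKL k hk.1 x' hx'.1).mul_mul_mul_comm,
      (cKL _ (mul_mem hk.1 hk'.1) _ (inv_mem hx.1)).mul_mul_mul_comm, (h.commK hB hk hk').eq, mul_inv_cancel_right,
      (cKL _ hk'.1 _ (inv_mem hx'.1)).mul_mul_mul_comm, mul_inv_cancel, mul_one]
    exact mul_mem (mul_mem (mul_mem hx.1 hx'.1) (inv_mem hx.1)) (inv_mem hx'.1)
  obtain ⟨l, -, r | r⟩ := R.inv_classes hx (sq_cn.1 (e ▸ R.tt)) fun r => t_ne_one (by rw [← e, r, cn_one])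
  · have c : ⁅(X6 1 : U K), (X1 1 : U K)⁆ = X4 1 := by rw [commutatorElement_def]; ext <;> simp only [UE] <;> grind
    refine key (X6 1) (X1 1) (g * l⁻¹) (c ▸ comm_X4 _ _) (c ▸ comm_X4 _ _) ?_
    rw [c, ← r, mul_cn, ← e]; exact congrArg _ (inv_cn l x)
  · have c : ⁅(X8 1 : U K), (X2 1 : U K)⁆ = X4 1 * X5 1 * X6 1 := by
      rw [commutatorElement_def]; ext <;> simp only [UE] <;> grind
    obtain ⟨m, -, r'⟩ := Loc.cls5 (L := R.toLoc) (a := X4 1 * X5 1 * X6 1) (by simp only [mem_Ys, UE, and_self])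
      (by simp only [UE]; exact one_ne_zero)
    refine key (X8 1) (X2 1) (g * l⁻¹ * m) ?_ ?_ ?_
    · rw [c, Commute, SemiconjBy]; ext <;> simp only [UE] <;> grind
    · rw [c, Commute, SemiconjBy]; ext <;> simp only [UE] <;> grind
    rw [c, mul_cn, show cn m _ = _ from r', ← r, mul_cn, ← e]; exact congrArg _ (inv_cn l x)

/-- a conjugate of `t` commuting with `t` -/
theorem conj_cases {g : G} (h1 : cn g R.t ≠ R.t) (hc : Commute (cn g R.t) R.t) :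
    ∃ l, cn (l * g) R.t = R.t * R.N (X4 1) ∨ cn l R.t = R.t ∧ cn (l * g) R.t = R.t * R.N (X5 1) := by
  have h2 := (sq_cn (g := g)).2 R.tt
  have hu := (h.invol h2 hc).resolve_left fun r => h.not_conj r g⁻¹ (inv_cn ..)
  obtain ⟨l, hl, r⟩ := R.inv_classes hu (sq_mul_one hc.symm R.tt h2) (mul_ne_one R.tt h1.symm)
  have e : cn (l * g) R.t = R.t * cn l (R.t * cn g R.t) := by
    rw [cn_mul, show cn l R.t = R.t from R.t_conj hl, ← mul_assoc, R.tt, one_mul, mul_cn]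
  exact ⟨l, r.imp (fun r => e.trans (congrArg _ r)) fun r => ⟨R.t_conj hl, e.trans (congrArg _ r)⟩⟩

end St0

theorem St0.fus (h : St0 R) : ∃ g, g * R.t * g⁻¹ = R.t * R.N (X4 1) := by
  by_contra! nz
  have nz : ∀ g, cn g R.t ≠ R.t * R.N (X4 1) := nz
  have n4 : ∀ g s, s ≠ 0 → cn g R.t ≠ R.t * R.N (X4 s) := fun g s hs e => by
    obtain ⟨κ, hκ⟩ := exists_l4 hs
    refine nz ((R.l κ)⁻¹ * g) ?_
    rw [mul_cn, e, ← cn_inj (g := R.l κ), cn_inv_cn, cn_mul, show cn _ R.t = R.t from R.t_conj (R.l_mem κ),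
      show cn _ _ = _ from R.lN κ _]
    exact congrArg _ (congrArg _ (by ext <;> simp only [UE, ζ, hκ]))
  obtain ⟨g0, a1, a2⟩ := h.zs
  obtain ⟨l0, ⟨-, e0⟩⟩ := (h.conj_cases (g := g0) a1 a2.symm).imp fun l r => r.resolve_left (nz _)
  generalize l0 * g0 = g1 at e0
  have c5 : ∀ s e, e ≠ 0 → ∃ g, cn g R.t = R.t * R.N (X4 s * X5 e) := fun s e he => by
    obtain ⟨m, hm, r⟩ := (Loc.cls5 (L := R.toLoc) (a := X4 s * X5 e) (by simp only [mem_Ys, UE, and_self])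
      (by simpa only [UE] using he)).symm
    exact ⟨m * g1, by rw [mul_cn, e0, cn_mul, show cn m R.t = R.t from R.t_conj (R.C_le hm), show cn m _ = _ from r]⟩
  have ct : ∀ u, Commute (R.N u) R.t := fun u => (R.tN u).symm
  have n1 : R.N (X5 1) ≠ 1 := fun r => one_ne_zero (α := K) (congrArg U.x5 (Loc.N_eq_one.1 r))
  obtain ⟨l1, ⟨e1, e2⟩⟩ := (h.conj_cases (g := g1⁻¹)
    (fun r => n1 (by simpa [e0] using (congrArg (cn g1) r).symm))
    (comm_cn (g := g1).1 (by rw [cn_inv_cn, e0]; exact (Commute.refl _).mul_right (ct _).symm))).imp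
      fun l r => r.resolve_left (nz _)
  have e3 : cn (l1 * g1⁻¹) (R.t * R.N (X5 1)) = R.t := by rw [mul_cn, ← e0, inv_cn, e1]
  obtain ⟨T, hT, le⟩ := exists_isSyl_ge (p := 2) (R := U0.map R.N ⊔ zpowers R.t)
    (L := centralizer {R.t} ⊓ centralizer {R.t * R.N (X5 1)})
    (isPGroup_sup (isSyl_N.pgrp.to_le (map_le_range _ _)) (pg_zp R.tt) (by
      rintro _ ⟨u, -, rfl⟩
      exact centralizer_le_normalizer' _ (mem_C.2 fun a ⟨n, ha⟩ => ha ▸ (ct u).zpow_right n)))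
    (sup_le (by
      rintro _ ⟨u, hu, rfl⟩
      exact ⟨mem_centralizer_singleton_iff.2 (ct u), mem_centralizer_singleton_iff.2 ((ct u).mul_right
        (Commute.map (show _ = _ by simpa [X4_zero] using comm_U0 hu 0 1) R.N))⟩)
      (zpowers_le.2 ⟨mem_centralizer_singleton_iff.2 rfl,
        mem_centralizer_singleton_iff.2 ((Commute.refl _).mul_right (ct _).symm)⟩))
  have mU : ∀ u ∈ U0, R.N u ∈ T := fun u hu => le (mem_sup_left ⟨u, hu, rfl⟩)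
  have mt : R.t ∈ T := le (mem_sup_right (mem_zpowers _))
  have Tt : ∀ b ∈ T, Commute b R.t := fun b hb => mem_centralizer_singleton_iff.1 (hT.le hb).1
  obtain ⟨n, hn, g, hg, e4⟩ := hT.frattini (g := l1 * g1⁻¹) (by
    rw [← cj_eq_iff, cj_inf, ← centralizer_singleton_conj, ← centralizer_singleton_conj, inf_comm]
    exact congrArg₂ (fun a b => centralizer {a} ⊓ centralizer {b}) e3 e2)
  replace e4 : cn g R.t = R.t * R.N (X5 1) := by
    rw [e4, mul_cn] at e2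
    exact cn_inj.1 (e2.trans (cn_eq (mem_centralizer_singleton_iff.1 hn.2)).symm)
  -- `Y` is central in `T`
  have cY : ∀ b ∈ T, ∀ s e, Commute b (R.N (X4 s * X5 e)) := fun b hb s e => by
    have p2 := pj_two (B := T) cLK (fun x a b => R.eq_one_of_central a b) hT.pgrp
    obtain ⟨l, hl, r⟩ := isSyl_N.exists_le_cj p2 fun _ r => r.1
    have cz : ∀ x ∈ pj R.L 𝐂[R.L] T cLK, Commute x (cn l (R.N (X4 1))) := fun x hx => by
      obtain ⟨_, ⟨u, rfl⟩, rfl⟩ := exists_cn (r hx)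
      exact comm_cn.2 (Commute.map (comm_X4 u 1) R.N)
    obtain ⟨s', e', r'⟩ := eq_of_cN (cn_mem' hl (R.N_mem_L (X4 1))) (sq_cn.2 Loc.τ_sq) fun u hu =>
      (cz _ ⟨R.N_mem_L u, 1, one_mem _, by simpa using mU u hu⟩).symm
    obtain rfl : e' = 0 := by_contra fun he => by
      obtain ⟨g', k⟩ := c5 s' e' he
      exact nz (l⁻¹ * g') (by rw [mul_cn, k, ← r', cn_mul, inv_cn, show cn l⁻¹ R.t = R.t from R.t_conj (inv_mem hl)])
    rw [X5_zero, mul_one] at r'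
    obtain ⟨x, hx, k, hk, rfl⟩ := h.dec hT.pgrp (hT.le.trans inf_le_left) hb
    have c1 : Commute (x * k) (R.N (X5 1)) := by
      simpa [← mul_assoc, R.t_inv, R.tt] using (Tt _ hb).mul_right (mem_centralizer_singleton_iff.1 (hT.le hb).2)
    obtain ⟨u, hu, rfl⟩ := mem_N_U0 (R.cen_s hx.1 (s := s') (fun r => Loc.τ_ne (L := R.toLoc) (cn_eq_one.1 (r'.trans (by
      rw [r, X4_zero, map_one])))) (r' ▸ cz x hx)) (isPGroup_iff.1 p2 x hx)
      (by simpa using c1.mul_left (cKL k hk.1 _ (R.N_mem_L _)).inv_left)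
    exact (Commute.map (comm_U0 hu s e) R.N).mul_left (cKL k hk.1 _ (R.N_mem_L _))
  let Ω : Set G := {x | x ∈ T ∧ x * x = 1 ∧ ∀ b ∈ T, Commute b x}
  have Ωg : ∀ g ∈ 𝐍[T], ∀ x ∈ Ω, cn g x ∈ Ω := fun g hg x hx => ⟨cn_mem hg hx.1, sq_cn.2 hx.2.1, fun b hb => by
    rw [← cn_inv_cn g b]; exact comm_cn.2 (hx.2.2 _ (cn_mem (inv_mem hg) hb))⟩
  have y2 : ∀ s e, R.N (X4 s * X5 e) * R.N (X4 s * X5 e) = 1 := fun s e => by
    rw [← map_mul, X45_mul, CharTwo.add_self_eq_zero, CharTwo.add_self_eq_zero, X4_zero, X5_zero, one_mul, map_one]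
  have Ωt : ∀ s e, R.t * R.N (X4 s * X5 e) ∈ Ω := fun s e => ⟨mul_mem mt (mU _ (X45_mem s e)),
    sq_mul_one (ct _).symm R.tt (y2 s e), fun b hb => (Tt b hb).mul_right (cY b hb s e)⟩
  have Ωc : ∀ x ∈ Ω, x ∈ R.L ∨ ∃ s e, x = R.t * R.N (X4 s * X5 e) := fun x hx =>
    (h.invol hx.2.1 (Tt x hx.1)).imp_right fun r => by
      obtain ⟨s, e, k⟩ := eq_of_cN r (sq_mul_one (Tt x hx.1).symm R.tt hx.2.1) fun u hu =>
        (ct u).symm.mul_left (hx.2.2 _ (mU u hu)).symm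
      exact ⟨s, e, by rw [← k, ← mul_assoc, R.tt, one_mul]⟩
  obtain ⟨x0, x1, x2⟩ := R.big
  have gL : ∀ s e, cn g⁻¹ (R.N (X4 s * X5 e)) ∈ R.L := fun s e => by
    have k : ∀ s e, e ≠ 0 → ∃ y ∈ R.L, cn g⁻¹ (R.t * R.N (X4 s * X5 e)) = R.t * y := fun s e he => by
      obtain ⟨s', e', r⟩ := (Ωc _ (Ωg _ (inv_mem hg) _ (Ωt s e))).resolve_left fun r => by
        obtain ⟨g', k⟩ := c5 s e he
        exact h.not_conj r (g'⁻¹ * g) (by rw [mul_cn, cn_inv_cn, ← k, inv_cn])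
      exact ⟨_, R.N_mem_L _, r⟩
    obtain ⟨c, c0, c1⟩ : ∃ c, c ≠ 0 ∧ c + e ≠ 0 := by
      by_cases r : e = 1
      exacts [⟨x0, x1, r ▸ add_one_ne x2⟩, ⟨1, one_ne_zero, add_comm e 1 ▸ add_one_ne r⟩]
    obtain ⟨y, hy, r⟩ := k 0 c c0
    obtain ⟨y', hy', r'⟩ := k s (c + e) c1
    have : R.N (X4 s * X5 e) = R.t * R.N (X4 0 * X5 c) * (R.t * R.N (X4 s * X5 (c + e))) := by
      rw [(ct _).mul_mul_mul_comm, R.tt, one_mul, ← map_mul, X45_mul, zero_add, ← add_assoc, CharTwo.add_self_eq_zero,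
        zero_add]
    rw [this, cn_mul, r, r', (cLK y hy _ t_mem_K).mul_mul_mul_comm, R.tt, one_mul]
    exact mul_mem hy hy'
  have gV : ∀ s, s ≠ 0 → ∃ s', cn g (R.t * R.N (X4 s * X5 0)) = R.t * R.N (X4 s' * X5 0) := fun s hs => by
    obtain r | ⟨s', e', r⟩ := Ωc _ (Ωg _ hg _ (Ωt s 0))
    · have o := Ωg _ hg _ (Ωt s 0)
      obtain ⟨s', e', k⟩ := eq_of_cN r o.2.1 fun u hu => (o.2.2 _ (mU u hu)).symm
      have := gL s' e'
      rw [← k, inv_cn] at this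
      exact (R.t_not ((mul_mem_cancel_right (R.N_mem_L _)).1 this)).elim
    obtain rfl : e' = 0 := by_contra fun he => by
      obtain ⟨g', k⟩ := c5 s' e' he
      exact n4 (g⁻¹ * g') s hs (by rw [mul_cn, k, ← r, inv_cn, X5_zero, mul_one])
    exact ⟨s', r⟩
  obtain ⟨s1, r1⟩ := gV 1 one_ne_zero
  obtain ⟨s2, r2⟩ := gV x0 x1
  obtain ⟨s3, r3⟩ := gV (x0 + 1) (add_one_ne x2)
  have p : ∀ a b c : K, R.t * R.N (X4 a * X5 0) * (R.t * R.N (X4 b * X5 0)) * (R.t * R.N (X4 c * X5 0)) =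
      R.t * R.N (X4 (a + b + c) * X5 0) := fun a b c => by
    rw [(ct _).mul_mul_mul_comm, R.tt, one_mul, ← map_mul, ← mul_assoc, (ct _).eq, mul_assoc, ← map_mul, X45_mul,
      X45_mul, add_zero, add_zero]
  have := congrArg (cn g) (p 1 x0 (x0 + 1))
  rw [cn_mul, cn_mul _ _ (R.t * _), r1, r2, r3, p, show 1 + x0 + (x0 + 1) = 0 by grind, X4_zero, X5_zero, one_mul, map_one,
    mul_one R.t, e4] at this
  have := congrArg U.x5 (R.inj (mul_left_cancel this))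
  simp only [UE] at this
  exact zero_ne_one this

theorem St0.two (h : St0 R) (c : G) (hc : c * R.t = R.t * c) (h2 : Two c) : c ∈ R.L ∨ c * R.t ∈ R.L := by
  have ct : ∀ u, Commute (R.N u) R.t := fun u => (R.tN u).symm
  have hsq : ∀ r ∈ 𝐂[R.L], r * r ≠ R.t := fun r hr e => by
    have r2 : IsPGroup 2 (zpowers r) := Two.isPGroup ⟨2, by
      rw [show r ^ 2 ^ 2 = r * r * (r * r) by norm_num [pow_succ, mul_assoc], e, R.tt]⟩
    obtain ⟨T, hT, le⟩ := exists_isSyl_ge (p := 2) (R := R.N.range ⊔ zpowers r) (L := centralizer {R.t})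
      (isPGroup_sup isSyl_N.pgrp r2 (by
        rintro _ ⟨u, rfl⟩
        exact centralizer_le_normalizer' _ (mem_C.2 fun a ⟨n, ha⟩ => ha ▸ (cLK _ (R.N_mem_L u) r hr).zpow_right n)))
      (sup_le (by rintro _ ⟨u, rfl⟩; exact mem_centralizer_singleton_iff.2 (ct u))
        (zpowers_le.2 (mem_centralizer_singleton_iff.2 (by rw [← e, mul_assoc]))))
    have mU : ∀ u, R.N u ∈ T := fun u => le (mem_sup_left ⟨u, rfl⟩)
    have mr : r ∈ T := le (mem_sup_right (mem_zpowers _))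
    have d : ∀ b ∈ T, ∃ u, ∃ k ∈ pj 𝐂[R.L] R.L T cKL, b = R.N u * k := fun b hb => by
      obtain ⟨x, hx, k, hk, rfl⟩ := h.dec hT.pgrp hT.le hb
      obtain ⟨u, rfl⟩ := isSyl_N.max _ (pj_two (B := T) cLK (fun x a b => R.eq_one_of_central a b) hT.pgrp)
        (by rintro _ ⟨u, rfl⟩; exact ⟨R.N_mem_L u, 1, one_mem _, by simpa using mU u⟩) (fun _ r => r.1) hx
      exact ⟨u, k, hk, rfl⟩
    obtain ⟨g0, e0⟩ := h.fus
    have h1 := hT.cj g0
    rw [← centralizer_singleton_conj, e0] at h1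
    obtain ⟨m, hm, k1⟩ := (h1.of_card_ge hT.pgrp (fun b hb => mem_centralizer_singleton_iff.2 (by
      obtain ⟨u, k, hk, rfl⟩ := d b hb
      exact (Commute.mul_right (mem_centralizer_singleton_iff.1 (hT.le hb)) ((Commute.map (comm_X4 u 1) R.N).mul_left
        (cKL k hk.1 _ (R.N_mem_L _)))).eq)) (card_cj _ _).le).exists_cj_eq h1
    rw [← cj_mul, cj_eq_iff] at k1
    have e1 : cn (m * g0) R.t = R.t * R.N (X4 1) := by
      rw [mul_cn, show cn g0 _ = _ from e0, cn_eq (mem_centralizer_singleton_iff.1 hm)]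
    generalize m * g0 = g at k1 e1
    obtain ⟨v, k, hk, e2⟩ := d _ (cn_mem k1 mr)
    have hv : v ∈ Zs := mem_Zs_of_comm fun u => R.inj (by
      obtain ⟨u', k', hk', e3⟩ := d _ (cn_mem (inv_mem k1) (mU u))
      have : Commute (cn g r) (cn g (cn g⁻¹ (R.N u))) := comm_cn.2 (e3 ▸ (cKL r hr _ (R.N_mem_L _)).mul_right
        (h.commK hT.pgrp ⟨hr, 1, one_mem _, by simpa using mr⟩ hk'))
      rw [cn_inv_cn, e2] at this
      simpa using (this.mul_left (cKL k hk.1 _ (R.N_mem_L _)).inv_left).eq)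
    rw [← e, cn_mul, e2, sq_mul (cLK _ (R.N_mem_L _) k hk.1), ← map_mul, eq_X4 hv,
      show (X4 v.x4 * X4 v.x4 : U K) = 1 by ext <;> simp only [UE], map_one, one_mul, e] at e1
    exact Loc.τ_ne (R.eq_one_of_central (R.N_mem_L _)
      ((mul_mem_cancel_left t_mem_K).1 (e1 ▸ mul_mem hk.1 hk.1)))
  have key : ∀ n, ∀ k ∈ 𝐂[R.L], Commute k R.t → k ^ 2 ^ n = 1 → k = 1 ∨ k = R.t := fun n => by
    induction n with
    | zero => exact fun k _ _ r => Or.inl (by simpa using r)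
    | succ n ih =>
      exact fun k hk c r => h.eqK hk ((ih _ (mul_mem hk hk) (c.mul_left c)
        (by rwa [← sq, ← pow_mul, ← pow_succ'])).resolve_right (hsq k hk)) c
  obtain ⟨x, hx, k, hk, rfl⟩ := h.dec h2.isPGroup (zpowers_le.2 (mem_centralizer_singleton_iff.2 hc)) (mem_zpowers c)
  obtain ⟨n, r⟩ := isPGroup_iff.1 (pj_two cKL (fun x a b => R.eq_one_of_central b a) h2.isPGroup) k hk
  rcases key n k hk.1 (by simpa using (cLK x hx.1 _ t_mem_K).inv_left.mul_left hc) r with rfl | rfl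
  · exact Or.inl (by simpa using hx.1)
  · exact Or.inr (by rw [mul_assoc, R.tt, mul_one]; exact hx.1)

/-- The data `Fz`. -/
def St0.fz (h : St0 R) : Fz K G where
  toRt := R
  nrm := h.nrm
  two := h.two
  aut c h1 h2 := h.autN c (h.nrm c h1) h2
  fus := h.fus

end Cfsg.Agent.S2F
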